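import Groth.Prelude.Def_EGA43
import Groth.Agent.FibDim.GenerizeDim
import Groth.Agent.FibDim.AffineChart
import Mathlib.AlgebraicGeometry.AffineSpace

/-!
# Universal openness at a point: affine spaces and discrete valuation rings (EGA IV 14.3)
-/

set_option autoImplicit false
set_option linter.style.haveILetI false

open AlgebraicGeometry CategoryTheory Limits Topology

namespace Groth.Agent.UnivOpen

universe u

/-- Sums of products of two maps. -/
theorem exists_sum_of_isPushout {R B C S : CommRingCat.{u}} {φ : R ⟶ B} {ψ : R ⟶ C} {β : B ⟶ S} {α : C ⟶ S}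
    (h : IsPushout φ ψ β α) (s : S) :
    ∃ (m : ℕ) (b : Fin m → B) (c : Fin m → C), s = ∑ i, β (b i) * α (c i) := by
  let T : Subring S :=
    { carrier := {s | ∃ (ι : Type) (_ : Fintype ι) (b : ι → B) (c : ι → C), s = ∑ i, β (b i) * α (c i)}
      zero_mem' := ⟨Empty, inferInstance, Empty.elim, Empty.elim, by simp⟩
      one_mem' := ⟨Unit, inferInstance, fun _ => 1, fun _ => 1, by simp⟩
      add_mem' := by
        rintro s t ⟨ι, _, b, c, rfl⟩ ⟨κ, _, b', c', rfl⟩
        exact ⟨ι ⊕ κ, inferInstance, Sum.elim b b', Sum.elim c c', by simp [Fintype.sum_sum_type]⟩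
      neg_mem' := by
        rintro s ⟨ι, _, b, c, rfl⟩
        exact ⟨ι, inferInstance, fun i => -b i, c, by simp⟩
      mul_mem' := by
        rintro s t ⟨ι, _, b, c, rfl⟩ ⟨κ, _, b', c', rfl⟩
        refine ⟨ι × κ, inferInstance, fun i => b i.1 * b' i.2, fun i => c i.1 * c' i.2, ?_⟩
        rw [Finset.sum_mul_sum, Fintype.sum_prod_type]
        refine Finset.sum_congr rfl fun i _ => Finset.sum_congr rfl fun j _ => ?_
        simp only [map_mul]
        ring }
  have h1 : ∀ b, β b ∈ T := fun b => ⟨Unit, inferInstance, fun _ => b, fun _ => 1, by simp⟩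
  have h2 : ∀ c, α c ∈ T := fun c => ⟨Unit, inferInstance, fun _ => 1, fun _ => c, by simp⟩
  let a₁ : B ⟶ CommRingCat.of T := CommRingCat.ofHom (β.hom.codRestrict T h1)
  let a₂ : C ⟶ CommRingCat.of T := CommRingCat.ofHom (α.hom.codRestrict T h2)
  have hw : φ ≫ a₁ = ψ ≫ a₂ := by
    ext r : 2
    exact Subtype.ext (congr($(h.w).hom r))
  have hid : h.desc a₁ a₂ hw ≫ CommRingCat.ofHom T.subtype = 𝟙 _ := h.hom_ext
    (by ext r; exact congrArg Subtype.val congr($(h.inl_desc a₁ a₂ hw).hom r))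
    (by ext r; exact congrArg Subtype.val congr($(h.inr_desc a₁ a₂ hw).hom r))
  have hs : s ∈ T := by
    have : s = (h.desc a₁ a₂ hw ≫ CommRingCat.ofHom T.subtype) s := by rw [hid]; rfl
    rw [this]
    exact (h.desc a₁ a₂ hw s).2
  obtain ⟨ι, _, b, c, rfl⟩ := hs
  refine ⟨Fintype.card ι, b ∘ (Fintype.equivFin ι).symm, c ∘ (Fintype.equivFin ι).symm, ?_⟩
  exact ((Fintype.equivFin ι).symm.sum_comp (fun i => β (b i) * α (c i))).symm

variable {X Y : Scheme.{u}} (f : X ⟶ Y)

/-- Universal openness at a point is detected on finite dimensional affine spaces. -/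
theorem isUnivOpenAt_of_affineSpace (x : X)
    (h : ∀ (m : ℕ) (x'' : ↥(pullback f (𝔸(ULift.{u} (Fin m); Y) ↘ Y))),
      pullback.fst f (𝔸(ULift.{u} (Fin m); Y) ↘ Y) x'' = x →
      EGA43.IsOpenAt (pullback.snd f (𝔸(ULift.{u} (Fin m); Y) ↘ Y)).base x'') :
    EGA43.IsUnivOpenAt f x := by
  intro Y' g x' hx' N hN
  subst hx'
  set y' := pullback.snd f g x' with hy'
  have hfg : f (pullback.fst f g x') = g y' := by
    show (pullback.fst f g ≫ f) x' = (pullback.snd f g ≫ g) x'
    rw [pullback.condition]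
  obtain ⟨V, hV, hxV, -⟩ := exists_isAffineOpen_mem_and_subset (x := g y') (U := ⊤) trivial
  obtain ⟨V', hV', hyV', hV'V⟩ := exists_isAffineOpen_mem_and_subset (x := y') (U := g ⁻¹ᵁ V) hxV
  obtain ⟨W, hW, hxW, hWV⟩ := exists_isAffineOpen_mem_and_subset (x := pullback.fst f g x') (U := f ⁻¹ᵁ V)
    (show f (pullback.fst f g x') ∈ V from hfg ▸ hxV)
  haveI : IsAffine (V : Scheme.{u}) := hV
  haveI : IsAffine (V' : Scheme.{u}) := hV'
  haveI : IsAffine (W : Scheme.{u}) := hW
  let fW := f.resLE V W hWV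
  let gV := g.resLE V V' hV'V
  have e₁ : fW ≫ V.ι = W.ι ≫ f := Scheme.Hom.resLE_comp_ι _ _
  have e₂ : gV ≫ V.ι = V'.ι ≫ g := Scheme.Hom.resLE_comp_ι _ _
  haveI : IsAffine (pullback fW gV) := inferInstance
  let jP : pullback fW gV ⟶ pullback f g := pullback.map fW gV f g W.ι V'.ι V.ι e₁ e₂
  obtain ⟨a, ha⟩ : x' ∈ Set.range jP := by
    rw [Scheme.Pullback.range_map]
    refine ⟨?_, ?_⟩
    · show pullback.fst f g x' ∈ Set.range W.ι
      rw [Scheme.Opens.range_ι]; exact hxW
    · show pullback.snd f g x' ∈ Set.range V'.ι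
      rw [Scheme.Opens.range_ι]; exact hyV'
  obtain ⟨N', hN'N, hN'o, hxN'⟩ := mem_nhds_iff.1 hN
  obtain ⟨s, ha', hsub⟩ : ∃ s : Γ(pullback fW gV, ⊤), a ∈ (pullback fW gV).basicOpen s ∧
      ((pullback fW gV).basicOpen s : Set ↥(pullback fW gV)) ⊆ jP ⁻¹' N' := by
    obtain ⟨_, ⟨_, ⟨t, rfl⟩, rfl⟩, h1, h2⟩ := (isBasis_basicOpen (pullback fW gV)).exists_subset_of_mem_open
      (show a ∈ jP ⁻¹' N' by rw [Set.mem_preimage, ha]; exact hxN') (hN'o.preimage jP.continuous)
    exact ⟨t, h1, h2⟩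
  obtain ⟨m, b, c, hs⟩ := exists_sum_of_isPushout
    (isPushout_appTop_of_isPullback (IsPullback.of_hasPullback fW gV)) s
  let π := (𝔸(ULift.{u} (Fin m); Y) ↘ Y)
  let ψ : (V' : Scheme.{u}) ⟶ 𝔸(ULift.{u} (Fin m); Y) := AffineSpace.homOfVector (V'.ι ≫ g) fun i => c i.down
  have hψ : ψ ≫ π = V'.ι ≫ g := AffineSpace.homOfVector_over _ _
  let j : pullback (W.ι ≫ f) π ⟶ pullback f π :=
    pullback.map (W.ι ≫ f) π f π W.ι (𝟙 _) (𝟙 _) (by simp) (by simp)
  have hwθ : pullback.fst fW gV ≫ W.ι ≫ f = (pullback.snd fW gV ≫ ψ) ≫ π := by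
    rw [Category.assoc, hψ, ← e₁, ← e₂, pullback.condition_assoc]
  let θ : pullback fW gV ⟶ pullback (W.ι ≫ f) π := pullback.lift (pullback.fst fW gV) (pullback.snd fW gV ≫ ψ) hwθ
  have sq : IsPullback θ (pullback.snd fW gV) (pullback.snd (W.ι ≫ f) π) ψ := by
    refine IsPullback.of_right ?_ (pullback.lift_snd _ _ _) (IsPullback.of_hasPullback (W.ι ≫ f) π)
    rw [pullback.lift_fst, hψ, ← e₁, ← e₂]
    exact IsPullback.of_isLimit (pullbackIsPullbackOfCompMono fW gV V.ι)
  let H : Γ(pullback (W.ι ≫ f) π, ⊤) :=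
    ∑ i, (pullback.fst (W.ι ≫ f) π).appTop (b i) *
      (pullback.snd (W.ι ≫ f) π).appTop (AffineSpace.coord Y (ULift.up i))
  have hθH : θ.appTop H = s := by
    rw [hs, map_sum]
    refine Finset.sum_congr rfl fun i _ => ?_
    rw [map_mul]
    congr 1
    · rw [← CommRingCat.comp_apply, ← Scheme.Hom.comp_appTop, pullback.lift_fst]
    · rw [← CommRingCat.comp_apply, ← Scheme.Hom.comp_appTop, pullback.lift_snd, Scheme.Hom.comp_appTop,
        CommRingCat.comp_apply, AffineSpace.homOfVector_appTop_coord]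
  have hU : θ ⁻¹ᵁ (pullback (W.ι ≫ f) π).basicOpen H = (pullback fW gV).basicOpen s := by
    rw [Scheme.preimage_basicOpen_top, hθH]
  have hopen := h m (j (θ a)) (by
    show (θ ≫ j ≫ pullback.fst f π) a = _
    rw [show j ≫ pullback.fst f π = pullback.fst (W.ι ≫ f) π ≫ W.ι from pullback.lift_fst _ _ _,
      pullback.lift_fst_assoc]
    show _ = pullback.fst f g x'
    rw [← ha, show pullback.fst fW gV ≫ W.ι = jP ≫ pullback.fst f g from (pullback.lift_fst _ _ _).symm]
    rfl)
    (j '' ((pullback (W.ι ≫ f) π).basicOpen H : Set _))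
    ((j.isOpenEmbedding.isOpenMap _ ((pullback (W.ι ≫ f) π).basicOpen H).isOpen).mem_nhds
      ⟨θ a, by show a ∈ θ ⁻¹ᵁ (pullback (W.ι ≫ f) π).basicOpen H; rw [hU]; exact ha', rfl⟩)
  have hbase : pullback.snd f π (j (θ a)) = ψ (pullback.snd fW gV a) := by
    show (θ ≫ j ≫ pullback.snd f π) a = (pullback.snd fW gV ≫ ψ) a
    rw [show j ≫ pullback.snd f π = pullback.snd (W.ι ≫ f) π ≫ 𝟙 _ from pullback.lift_snd _ _ _,
      Category.comp_id, pullback.lift_snd]
  rw [show (pullback.snd f π).base (j (θ a)) = ψ (pullback.snd fW gV a) from hbase] at hopen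
  have h2 := ψ.continuous.continuousAt.preimage_mem_nhds hopen
  have h3 := V'.ι.isOpenEmbedding.isOpenMap.image_mem_nhds h2
  have h4 : V'.ι (pullback.snd fW gV a) = y' := by
    rw [hy', ← ha]
    show (pullback.snd fW gV ≫ V'.ι) a = (jP ≫ pullback.snd f g) a
    rw [show jP ≫ pullback.snd f g = pullback.snd fW gV ≫ V'.ι from pullback.lift_snd _ _ _]
  rw [h4] at h3
  refine Filter.mem_of_superset h3 ?_
  rintro _ ⟨v, ⟨_, ⟨w, hw, rfl⟩, hwv⟩, rfl⟩
  have hwv' : pullback.snd (W.ι ≫ f) π w = ψ v := by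
    rw [← hwv]
    show _ = (j ≫ pullback.snd f π) w
    rw [show j ≫ pullback.snd f π = pullback.snd (W.ι ≫ f) π ≫ 𝟙 _ from pullback.lift_snd _ _ _, Category.comp_id]
  obtain ⟨p, hp1, hp2⟩ := Scheme.Pullback.exists_preimage_pullback w v hwv'
  refine ⟨jP (sq.isoPullback.inv p), hN'N (hsub ?_), ?_⟩
  · show sq.isoPullback.inv p ∈ (pullback fW gV).basicOpen s
    rw [← hU]
    show θ (sq.isoPullback.inv p) ∈ (pullback (W.ι ≫ f) π).basicOpen H
    rw [← Scheme.Hom.comp_apply, sq.isoPullback_inv_fst, hp1]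
    exact hw
  · show (sq.isoPullback.inv ≫ jP ≫ pullback.snd f g) p = V'.ι v
    rw [show jP ≫ pullback.snd f g = pullback.snd fW gV ≫ V'.ι from pullback.lift_snd _ _ _,
      sq.isoPullback_inv_snd_assoc, Scheme.Hom.comp_apply, hp2]

/-- Openness at a point is detected by lifting generizations. -/
theorem isOpenAt_of_lifts [LocallyOfFiniteType f] [IsLocallyNoetherian Y] (x : X)
    (h : ∀ t, t ⤳ f x → ∃ ζ, ζ ⤳ x ∧ f ζ = t) : EGA43.IsOpenAt f.base x := by
  intro N hN
  obtain ⟨V, hV, hxV, -⟩ := exists_isAffineOpen_mem_and_subset (x := f x) (U := ⊤) trivial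
  obtain ⟨N', hN'N, hN'o, hxN'⟩ := mem_nhds_iff.1 hN
  obtain ⟨U, hU, hxU, hsub⟩ := exists_isAffineOpen_mem_and_subset (x := x)
    (U := f ⁻¹ᵁ V ⊓ ⟨N', hN'o⟩) ⟨hxV, hxN'⟩
  have hUV : U ≤ f ⁻¹ᵁ V := fun z hz => (hsub hz).1
  haveI : IsAffine (U : Scheme.{u}) := hU
  haveI : IsAffine (V : Scheme.{u}) := hV
  haveI : LocallyOfFiniteType (f.resLE V U hUV ≫ V.ι) := by rw [Scheme.Hom.resLE_comp_ι]; infer_instance
  haveI : LocallyOfFiniteType (f.resLE V U hUV) := locallyOfFiniteType_of_comp _ V.ι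
  haveI : IsLocallyNoetherian (U : Scheme.{u}) := LocallyOfFiniteType.isLocallyNoetherian (f.resLE V U hUV)
  have himg := FibDim.image_mem_nhds (f.resLE V U hUV)
    (L := (Set.univ ∩ Set.univ : Set ↥(U : Scheme.{u})))
    (FibDim.isLocallyConstructible_inter isOpen_univ isClosed_univ) (y := f.resLE V U hUV ⟨x, hxU⟩) fun t ht => by
      have ht' := ht.map V.ι.continuous
      obtain ⟨ζ, hζ, hfζ⟩ := h (V.ι t) (ht'.trans (specializes_of_eq (FibDim.fiber_apply_resLE f hUV _)))
      refine ⟨⟨ζ, hζ.mem_open U.isOpen hxU⟩, ⟨trivial, trivial⟩, V.ι.isOpenEmbedding.injective ?_⟩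
      exact (FibDim.fiber_apply_resLE f hUV _).trans hfζ
  have h2 := V.ι.isOpenEmbedding.isOpenMap.image_mem_nhds himg
  rw [show V.ι (f.resLE V U hUV ⟨x, hxU⟩) = f x from FibDim.fiber_apply_resLE f hUV _] at h2
  refine Filter.mem_of_superset h2 ?_
  rintro _ ⟨_, ⟨u, -, rfl⟩, rfl⟩
  exact ⟨U.ι u, hN'N (hsub u.2).2, (FibDim.fiber_apply_resLE f hUV u).symm⟩

/-- A specialization in a locally noetherian scheme is realized by a discrete valuation ring. -/
theorem exists_dvr_lift [IsLocallyNoetherian Y] {s s' : Y} (hs : s' ⤳ s) (hne : s ≠ s') :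
    ∃ (A : Type u) (_ : CommRing A) (_ : IsDomain A) (_ : IsDiscreteValuationRing A)
      (τ : Spec (CommRingCat.of A) ⟶ Y), τ (IsLocalRing.closedPoint A) = s ∧
      ∀ η : Spec (CommRingCat.of A), η ≠ IsLocalRing.closedPoint A → τ η = s' := by
  obtain ⟨A, τ, hA, hclosed, hgen⟩ := Proj16.exists_dvr_path (p := 𝟙 Y) (x := s') hs (fun h => hne h)
  refine ⟨A, inferInstance, inferInstance, hA, τ, hclosed, fun η hη => ?_⟩
  have h1 : η = Spec.map (CommRingCat.ofHom A.subtype) (IsLocalRing.closedPoint (Y.residueField s')) := by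
    refine PrimeSpectrum.ext ?_
    have hbot : (η : PrimeSpectrum A).asIdeal = ⊥ := by
      by_contra hb
      exact hη (PrimeSpectrum.ext (IsLocalRing.eq_maximalIdeal
        (Ideal.IsPrime.isMaximal_of_ne_bot (η : PrimeSpectrum A).isPrime hb)))
    rw [hbot]
    refine Ideal.ext fun a => ?_
    show a ∈ (⊥ : Ideal A) ↔ A.subtype a ∈ IsLocalRing.maximalIdeal (Y.residueField s')
    rw [IsLocalRing.maximalIdeal_eq_bot, Ideal.mem_bot, Ideal.mem_bot]
    exact (map_eq_zero_iff A.subtype Subtype.val_injective).symm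
  rw [h1]
  show (Spec.map (CommRingCat.ofHom A.subtype) ≫ τ) _ = s'
  rw [hgen, Category.comp_id, Scheme.fromSpecResidueField_apply]

/-- The discrete valuation ring criterion for universal openness at a point. -/
theorem isUnivOpenAt_iff_dvr [IsLocallyNoetherian Y] [LocallyOfFiniteType f] (x : X) :
    EGA43.IsUnivOpenAt f x ↔
      ∀ (A : Type u) [CommRing A] [IsDomain A] [IsDiscreteValuationRing A]
        (g : Spec (CommRingCat.of A) ⟶ Y), g.base (IsLocalRing.closedPoint A) = f.base x →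
        ∀ x' : ↥(pullback f g), (pullback.fst f g).base x' = x →
          (pullback.snd f g).base x' = IsLocalRing.closedPoint A →
          ∃ z' : ↥(pullback f g), z' ⤳ x' ∧ (pullback.snd f g).base z' ≠ IsLocalRing.closedPoint A := by
  refine ⟨fun h A _ _ _ g _ x' hx' hxc => ?_, fun h => ?_⟩
  · let η : Spec (CommRingCat.of A) := (⟨⊥, Ideal.isPrime_bot⟩ : PrimeSpectrum A)
    have hη : η ⤳ pullback.snd f g x' :=
      (PrimeSpectrum.le_iff_specializes (⟨⊥, Ideal.isPrime_bot⟩ : PrimeSpectrum A)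
        (pullback.snd f g x' : PrimeSpectrum A)).1 bot_le
    obtain ⟨ζ, hζ, hfζ⟩ := FibDim.exists_generization_of_isOpenAt (pullback.snd f g) (h _ g x' hx') hη
    refine ⟨ζ, hζ, fun hc => ?_⟩
    have : (⊥ : Ideal A) = IsLocalRing.maximalIdeal A := congrArg PrimeSpectrum.asIdeal (hfζ.symm.trans hc)
    exact IsDiscreteValuationRing.not_a_field A this.symm
  · refine isUnivOpenAt_of_affineSpace f x fun m x'' hx'' => ?_
    let π := (𝔸(ULift.{u} (Fin m); Y) ↘ Y)
    haveI : IsLocallyNoetherian 𝔸(ULift.{u} (Fin m); Y) := LocallyOfFiniteType.isLocallyNoetherian π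
    refine isOpenAt_of_lifts (pullback.snd f π) x'' fun t ht => ?_
    by_cases hne : pullback.snd f π x'' = t
    · exact ⟨x'', specializes_refl _, hne⟩
    obtain ⟨A, _, _, _, τ, hτc, hτg⟩ := exists_dvr_lift ht hne
    let k : pullback f (τ ≫ π) ⟶ pullback f π := pullback.map f (τ ≫ π) f π (𝟙 _) τ (𝟙 _) (by simp) (by simp)
    have hk : IsPullback k (pullback.snd f (τ ≫ π)) (pullback.snd f π) τ := by
      refine IsPullback.of_right ?_ (pullback.lift_snd _ _ _) (IsPullback.of_hasPullback f π)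
      rw [show k ≫ pullback.fst f π = pullback.fst f (τ ≫ π) ≫ 𝟙 _ from pullback.lift_fst _ _ _, Category.comp_id]
      exact IsPullback.of_hasPullback _ _
    obtain ⟨p, hp1, hp2⟩ := Scheme.Pullback.exists_preimage_pullback (f := pullback.snd f π) (g := τ) x''
      (IsLocalRing.closedPoint A) hτc.symm
    have hfst : pullback.fst f (τ ≫ π) (hk.isoPullback.inv p) = x := by
      rw [← hx'', ← hp1]
      show (hk.isoPullback.inv ≫ pullback.fst f (τ ≫ π)) p = (pullback.fst (pullback.snd f π) τ ≫ pullback.fst f π) p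
      rw [← hk.isoPullback_inv_fst, Category.assoc,
        show k ≫ pullback.fst f π = pullback.fst f (τ ≫ π) ≫ 𝟙 _ from pullback.lift_fst _ _ _, Category.comp_id]
    have hsnd : pullback.snd f (τ ≫ π) (hk.isoPullback.inv p) = IsLocalRing.closedPoint A := by
      show (hk.isoPullback.inv ≫ pullback.snd f (τ ≫ π)) p = _
      rw [hk.isoPullback_inv_snd]; exact hp2
    obtain ⟨z', hz', hzne⟩ := h A (τ ≫ π) (by
      show π (τ (IsLocalRing.closedPoint A)) = f x
      rw [hτc, ← hx'']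
      show (pullback.snd f π ≫ π) x'' = (pullback.fst f π ≫ f) x''
      rw [pullback.condition]) _ hfst hsnd
    refine ⟨k z', ?_, ?_⟩
    · have := hz'.map k.continuous
      rwa [show k (hk.isoPullback.inv p) = x'' from by
        show (hk.isoPullback.inv ≫ k) p = x''; rw [hk.isoPullback_inv_fst]; exact hp1] at this
    · show (k ≫ pullback.snd f π) z' = t
      rw [hk.w, Scheme.Hom.comp_apply, hτg _ hzne]

end Groth.Agent.UnivOpen

namespace Groth.Agent.UnivOpen

universe v

variable {X Y : Scheme.{v}} (f : X ⟶ Y)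

theorem universallyOpen_iff_forall : UniversallyOpen f ↔ ∀ x, EGA43.IsUnivOpenAt f x := by
  refine ⟨fun h x Y' g x' _ U hU => (pullback.snd f g).isOpenMap.image_mem_nhds hU, fun h => ⟨?_⟩⟩
  intro P Y' p g q hP U hU
  refine isOpen_iff_mem_nhds.2 ?_
  rintro _ ⟨w, hw, rfl⟩
  have e := hP.flip.isoPullback
  have hU' : IsOpen (hP.flip.isoPullback.inv ⁻¹' U) := hU.preimage hP.flip.isoPullback.inv.continuous
  have hw' : hP.flip.isoPullback.hom w ∈ hP.flip.isoPullback.inv ⁻¹' U := by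
    show (hP.flip.isoPullback.hom ≫ hP.flip.isoPullback.inv) w ∈ U
    rw [Iso.hom_inv_id]; exact hw
  have h1 := h _ Y' g (hP.flip.isoPullback.hom w) rfl _ (hU'.mem_nhds hw')
  have h3 : pullback.snd f g (hP.flip.isoPullback.hom w) = q w := by
    rw [← Scheme.Hom.comp_apply, hP.flip.isoPullback_hom_snd]
  rw [show (pullback.snd f g).base (hP.flip.isoPullback.hom w) = q w from h3] at h1
  refine Filter.mem_of_superset h1 ?_
  rintro _ ⟨a, ha, rfl⟩
  exact ⟨_, ha, by rw [← Scheme.Hom.comp_apply, hP.flip.isoPullback_inv_snd]⟩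

/-- Over a discrete valuation ring every component dominates iff points of the closed fibre generize. -/
theorem forall_dominates_iff {A : Type v} [CommRing A] [IsDomain A] [IsDiscreteValuationRing A]
    (q : X ⟶ Spec (CommRingCat.of A)) :
    (∀ Z ∈ irreducibleComponents (X : Type v), Dense (q '' Z)) ↔
      ∀ x, q x = IsLocalRing.closedPoint A → ∃ z, z ⤳ x ∧ q z ≠ IsLocalRing.closedPoint A := by
  let η : Spec (CommRingCat.of A) := (⟨⊥, Ideal.isPrime_bot⟩ : PrimeSpectrum A)
  have hη : ∀ t, η ⤳ t := fun t => (PrimeSpectrum.le_iff_specializes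
    (⟨⊥, Ideal.isPrime_bot⟩ : PrimeSpectrum A) (t : PrimeSpectrum A)).1 bot_le
  have hne : η ≠ IsLocalRing.closedPoint A := fun h =>
    IsDiscreteValuationRing.not_a_field A (congrArg PrimeSpectrum.asIdeal h).symm
  have hcl : IsClosed ({IsLocalRing.closedPoint A} : Set (PrimeSpectrum A)) :=
    IsLocalRing.isClosed_singleton_closedPoint A
  constructor
  · intro h x hx
    obtain ⟨z, hz, hzm⟩ := FibDim.exists_maximal_generization x
    refine ⟨z, hz, fun hzc => hne ?_⟩
    have h1 := h _ (FDescent.closure_mem_irreducibleComponents hzm)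
    rw [dense_iff_closure_eq, closure_image_closure q.continuous, Set.image_singleton, hzc] at h1
    have h2 : η ∈ closure ({IsLocalRing.closedPoint A} : Set (Spec (CommRingCat.of A))) := h1 ▸ Set.mem_univ η
    exact hcl.closure_subset h2
  · intro h Z hZ
    obtain ⟨z, rfl, hzm⟩ := FDescent.exists_maximal_of_mem_irreducibleComponents hZ
    rw [dense_iff_closure_eq, closure_image_closure q.continuous, Set.image_singleton]
    have hz : q z = η := by
      by_contra hzη
      have hzc : q z = IsLocalRing.closedPoint A := by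
        refine PrimeSpectrum.ext (IsLocalRing.eq_maximalIdeal
          (Ideal.IsPrime.isMaximal_of_ne_bot (q z : PrimeSpectrum A).isPrime fun hb => hzη (PrimeSpectrum.ext hb)))
      obtain ⟨w, hw, hwc⟩ := h z hzc
      exact hwc (hzm w hw ▸ hzc)
    rw [hz]
    exact Set.eq_univ_of_forall fun t => specializes_iff_mem_closure.1 (hη t)

end Groth.Agent.UnivOpen
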