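import Groth.Agent.UnivOpen.GeomUnibranch
import Mathlib.AlgebraicGeometry.AffineSpace
import Mathlib.AlgebraicGeometry.StructureSheaf

/-!
# Affine space over a geometrically unibranch point (EGA IV 14.4.1.1)
-/

set_option autoImplicit false
set_option linter.style.haveILetI false

open MvPolynomial AlgebraicGeometry CategoryTheory Limits

namespace Groth.Agent.UnivOpen

universe u

theorem isGeomUnibranch_of_ringEquiv {O O' : Type u} [CommRing O] [CommRing O'] [IsLocalRing O] [IsLocalRing O']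
    (e : O ≃+* O') (h : CAlg2.IsGeomUnibranch O) : CAlg2.IsGeomUnibranch O' := by
  refine GU.isGeomUnibranch (GU.of_ringEquiv ?_ (GU.of_isGeomUnibranch h))
  refine Ideal.quotientEquiv (nilradical O') (nilradical O) e.symm ?_
  ext a
  show a ∈ nilradical O ↔ a ∈ Ideal.map e.symm.toRingHom (nilradical O')
  rw [Ideal.mem_map_iff_of_surjective e.symm.toRingHom e.symm.surjective, mem_nilradical]
  refine ⟨fun ha => ⟨e a, mem_nilradical.2 (ha.map e), e.symm_apply_apply a⟩, ?_⟩
  rintro ⟨b, hb, rfl⟩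
  exact (mem_nilradical.1 hb).map e.symm

set_option maxHeartbeats 1000000 in
theorem isGeomUnibranch_localization_mvPolynomial {A : Type u} [CommRing A] (σ : Type u)
    (P : Ideal (MvPolynomial σ A)) [P.IsPrime] (p : Ideal A) [p.IsPrime] (hp : p = P.comap C)
    (h : CAlg2.IsGeomUnibranch (Localization.AtPrime p)) : CAlg2.IsGeomUnibranch (Localization.AtPrime P) := by
  have hgu := GU.of_isGeomUnibranch h
  haveI := hgu.1
  haveI := hgu.2.1
  let Lp := Localization.AtPrime p
  let A0 := CAlg2.red Lp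
  let f : A →+* A0 := (Ideal.Quotient.mk (nilradical Lp)).comp (algebraMap A Lp)
  let K := P.ResidueField
  let gA : A →+* K := (algebraMap (MvPolynomial σ A) K).comp C
  have hgA : ∀ a : p.primeCompl, IsUnit (gA a) := fun a => by
    refine IsUnit.mk0 _ fun h0 => a.2 ?_
    have h1 : C a.1 ∈ P := Ideal.algebraMap_residueField_eq_zero.1 h0
    exact hp.ge h1
  let gL : Lp →+* K := IsLocalization.lift hgA
  let g : A0 →+* K := Ideal.Quotient.lift (nilradical Lp) gL fun a ha => (IsNilpotent.map ha gL).eq_zero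
  have hg : ∀ a, g (f a) = gA a := fun a => IsLocalization.lift_eq hgA a
  let e : MvPolynomial σ A0 →+* K := MvPolynomial.eval₂Hom g fun i => algebraMap (MvPolynomial σ A) K (X i)
  have he : ∀ G, e (MvPolynomial.map f G) = algebraMap (MvPolynomial σ A) K G := fun G => by
    refine RingHom.congr_fun (MvPolynomial.ringHom_ext (f := e.comp (MvPolynomial.map f))
      (g := algebraMap (MvPolynomial σ A) K) (fun a => ?_) fun i => ?_) G
    · rw [RingHom.comp_apply, map_C]
      simp only [e, eval₂Hom_C]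
      exact hg a
    · rw [RingHom.comp_apply, map_X]
      simp only [e, eval₂Hom_X']
  let P0 : Ideal (MvPolynomial σ A0) := RingHom.ker e
  haveI : P0.IsPrime := RingHom.ker_isPrime e
  have hP0 : P0.comap C = IsLocalRing.maximalIdeal A0 := by
    refine le_antisymm (IsLocalRing.le_maximalIdeal_of_isPrime _) fun a ha => ?_
    obtain ⟨a, rfl⟩ := Ideal.Quotient.mk_surjective a
    obtain ⟨a, s, rfl⟩ := IsLocalization.exists_mk'_eq p.primeCompl a
    have hap : a ∈ p := by
      by_contra hap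
      exact ha ((IsLocalization.AtPrime.isUnit_mk'_iff _ p a s).2 hap |>.map _)
    show e (C _) = 0
    simp only [e, eval₂Hom_C]
    show gL _ = 0
    rw [IsLocalization.lift_mk'_spec, mul_zero]
    exact Ideal.algebraMap_residueField_eq_zero.2 (by rw [hp] at hap; exact hap)
  have hT := hgu.mvPolynomial σ P0 hP0
  let T0 := Localization.AtPrime P0
  letI : CommRing T0 := inferInstanceAs (CommRing (Localization.AtPrime P0))
  haveI : IsDomain T0 := hT.1
  let ψ : MvPolynomial σ A →+* T0 := (algebraMap _ T0).comp (MvPolynomial.map f)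
  have hψu : ∀ G : P.primeCompl, IsUnit (ψ G) := fun G =>
    IsLocalization.map_units T0 (⟨MvPolynomial.map f G.1, fun h0 => G.2 (by
      have := (he G.1).symm.trans h0
      exact Ideal.algebraMap_residueField_eq_zero.1 this)⟩ : P0.primeCompl)
  let Ψ : Localization.AtPrime P →+* T0 := IsLocalization.lift hψu
  have hclear : ∀ G : MvPolynomial σ A0, ∃ (G₀ : MvPolynomial σ A) (s : A), s ∉ p ∧
      MvPolynomial.map f G₀ = G * C (f s) := fun G => by
    induction G using MvPolynomial.induction_on with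
    | C c =>
      obtain ⟨c, rfl⟩ := Ideal.Quotient.mk_surjective c
      obtain ⟨⟨a, s⟩, h⟩ := IsLocalization.surj p.primeCompl c
      refine ⟨C a, s.1, s.2, ?_⟩
      rw [map_C, ← map_mul C]
      exact congrArg C ((congrArg (Ideal.Quotient.mk (nilradical Lp)) h.symm).trans (map_mul _ _ _))
    | add G G' hG hG' =>
      obtain ⟨a, s, hs, h⟩ := hG
      obtain ⟨a', s', hs', h'⟩ := hG'
      exact ⟨a * C s' + a' * C s, s * s', fun hm => (Ideal.IsPrime.mem_or_mem inferInstance hm).elim hs hs', by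
        simp only [map_add, map_mul, map_C, h, h']; ring⟩
    | mul_X G i hG =>
      obtain ⟨a, s, hs, h⟩ := hG
      exact ⟨a * X i, s, hs, by rw [map_mul, map_X, h]; ring⟩
  have hfs : ∀ s, s ∉ p → f s ≠ 0 := fun s hs =>
    ((IsLocalization.map_units Lp (⟨s, hs⟩ : p.primeCompl)).map (Ideal.Quotient.mk _)).ne_zero
  have hCs : ∀ s, s ∉ p → IsUnit (algebraMap (MvPolynomial σ A0) T0 (C (f s))) := fun s hs => by
    refine IsLocalization.map_units T0 (⟨C (f s), fun h0 => ?_⟩ : P0.primeCompl)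
    have h0' : C (f s) ∈ P0 := h0
    rw [← Ideal.mem_comap, hP0] at h0'
    exact h0' ((IsLocalization.map_units Lp (⟨s, hs⟩ : p.primeCompl)).map (Ideal.Quotient.mk _))
  have hsurj : Function.Surjective Ψ := fun z => by
    obtain ⟨G, H, rfl⟩ := IsLocalization.exists_mk'_eq P0.primeCompl z
    obtain ⟨G₀, s, hs, hG⟩ := hclear G
    obtain ⟨H₀, s', hs', hH⟩ := hclear H.1
    have hmem : H₀ * C s ∈ P.primeCompl := fun hm => by
      have h1 := (he (H₀ * C s)).trans (Ideal.algebraMap_residueField_eq_zero.2 hm)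
      rw [map_mul, map_C, hH, map_mul, map_mul] at h1
      have u1 : e (C (f s)) ≠ 0 := fun h0 => hs (by
        have := h0; simp only [e, eval₂Hom_C] at this; rw [hg] at this
        rw [hp, Ideal.mem_comap]; exact Ideal.algebraMap_residueField_eq_zero.1 this)
      have u2 : e (C (f s')) ≠ 0 := fun h0 => hs' (by
        have := h0; simp only [e, eval₂Hom_C] at this; rw [hg] at this
        rw [hp, Ideal.mem_comap]; exact Ideal.algebraMap_residueField_eq_zero.1 this)
      exact mul_ne_zero (mul_ne_zero (show e H.1 ≠ 0 from H.2) u2) u1 h1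
    refine ⟨IsLocalization.mk' _ (G₀ * C s') ⟨H₀ * C s, hmem⟩, ?_⟩
    show IsLocalization.lift hψu _ = _
    rw [IsLocalization.lift_mk'_spec]
    show algebraMap _ T0 (MvPolynomial.map f (G₀ * C s')) = algebraMap _ T0 (MvPolynomial.map f (H₀ * C s)) * _
    simp only [map_mul, map_C, hG, hH]
    have hm := IsLocalization.mk'_spec T0 G H
    linear_combination (-(algebraMap (MvPolynomial σ A0) T0 (C (f s')) * algebraMap (MvPolynomial σ A0) T0 (C (f s)))) * hm
  have hker : RingHom.ker Ψ = nilradical (Localization.AtPrime P) := by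
    refine le_antisymm (fun z hz => ?_) fun z hz => RingHom.mem_ker.2 (IsNilpotent.map hz Ψ).eq_zero
    obtain ⟨G, H, rfl⟩ := IsLocalization.exists_mk'_eq P.primeCompl z
    have h0 := RingHom.mem_ker.1 hz
    rw [IsLocalization.lift_mk'_spec, mul_zero] at h0
    have hG : MvPolynomial.map f G = 0 :=
      IsLocalization.injective T0 P0.primeCompl_le_nonZeroDivisors (h0.trans (map_zero _).symm)
    have hc : G ∈ ((nilradical (Localization.AtPrime P)).comap (algebraMap (MvPolynomial σ A) _)) := by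
      rw [← MvPolynomial.support_sum_monomial_coeff G]
      refine Ideal.sum_mem _ fun d _ => ?_
      have hd : f (coeff d G) = 0 := by rw [← coeff_map, hG, coeff_zero]
      obtain ⟨k, hk⟩ := Ideal.Quotient.eq_zero_iff_mem.1 hd
      have hk' : algebraMap A Lp (coeff d G ^ k) = 0 := by rw [map_pow]; exact hk
      obtain ⟨s, hs⟩ := (IsLocalization.map_eq_zero_iff p.primeCompl Lp _).1 hk'
      rw [MvPolynomial.monomial_eq, Ideal.mem_comap, map_mul]
      refine Ideal.mul_mem_right _ _ (mem_nilradical.2 ⟨k, ?_⟩)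
      rw [← map_pow, ← map_pow, IsLocalization.map_eq_zero_iff P.primeCompl]
      refine ⟨⟨C s.1, fun hm => s.2 (hp.ge hm)⟩, ?_⟩
      show C s.1 * C (coeff d G ^ k) = 0
      rw [← map_mul, hs, map_zero]
    rw [IsLocalization.mk'_eq_mul_mk'_one]
    exact Ideal.mul_mem_right _ _ hc
  refine GU.isGeomUnibranch (GU.of_ringEquiv ?_ hT)
  exact (Ideal.quotEquivOfEq hker.symm).trans (RingHom.quotientKerEquivOfSurjective hsurj)

/-- EGA IV 14.4.1.1. -/
theorem isGeomUnibranch_affineSpace {Y : Scheme.{u}} (σ : Type u) (y' : ↥𝔸(σ; Y))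
    (hy : CAlg2.IsGeomUnibranch (Y.presheaf.stalk ((𝔸(σ; Y) ↘ Y) y'))) :
    CAlg2.IsGeomUnibranch ((𝔸(σ; Y)).presheaf.stalk y') := by
  obtain ⟨V, hV, hyV, -⟩ := exists_isAffineOpen_mem_and_subset (x := (𝔸(σ; Y) ↘ Y) y') (U := ⊤) trivial
  haveI : IsAffine (V : Scheme.{u}) := hV
  let R := CommRingCat.of (MvPolynomial σ Γ((V : Scheme.{u}), ⊤))
  haveI : IsOpenImmersion (AffineSpace.map σ V.ι) :=
    MorphismProperty.of_isPullback (P := @IsOpenImmersion) (AffineSpace.isPullback_map V.ι).flip inferInstance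
  let j : Spec R ⟶ 𝔸(σ; Y) := (AffineSpace.isoOfIsAffine σ (V : Scheme.{u})).inv ≫ AffineSpace.map σ V.ι
  obtain ⟨z, hz1, hz2⟩ := Scheme.Pullback.exists_preimage_pullback (f := (𝔸(σ; Y) ↘ Y)) (g := V.ι) y' ⟨_, hyV⟩ rfl
  let b : Spec R := (AffineSpace.isoOfIsAffine σ (V : Scheme.{u})).hom
    ((AffineSpace.isPullback_map (n := σ) V.ι).isoPullback.inv z)
  have hb : j b = y' := by
    show ((AffineSpace.isPullback_map (n := σ) V.ι).isoPullback.inv ≫
      (AffineSpace.isoOfIsAffine σ (V : Scheme.{u})).hom ≫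
      (AffineSpace.isoOfIsAffine σ (V : Scheme.{u})).inv ≫ AffineSpace.map σ V.ι) z = y'
    rw [Iso.hom_inv_id_assoc, (AffineSpace.isPullback_map (n := σ) V.ι).isoPullback_inv_fst]
    exact hz1
  let P : Ideal R := (b : PrimeSpectrum R).asIdeal
  let a : Spec Γ((V : Scheme.{u}), ⊤) := Spec.map (CommRingCat.ofHom MvPolynomial.C) b
  let k : Spec Γ((V : Scheme.{u}), ⊤) ⟶ Y := (V : Scheme.{u}).isoSpec.inv ≫ V.ι
  have hk : k a = (𝔸(σ; Y) ↘ Y) y' := by
    rw [← hb]
    show (Spec.map (CommRingCat.ofHom MvPolynomial.C) ≫ (V : Scheme.{u}).isoSpec.inv ≫ V.ι) b =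
      (((AffineSpace.isoOfIsAffine σ (V : Scheme.{u})).inv ≫ AffineSpace.map σ V.ι) ≫ (𝔸(σ; Y) ↘ Y)) b
    rw [Category.assoc, AffineSpace.map_over, ← Category.assoc (AffineSpace.isoOfIsAffine σ (V : Scheme.{u})).inv,
      AffineSpace.isoOfIsAffine_inv_over, Category.assoc]
    rfl
  let p : Ideal Γ((V : Scheme.{u}), ⊤) := (a : PrimeSpectrum Γ((V : Scheme.{u}), ⊤)).asIdeal
  haveI : P.IsPrime := (b : PrimeSpectrum R).isPrime
  haveI : p.IsPrime := (a : PrimeSpectrum Γ((V : Scheme.{u}), ⊤)).isPrime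
  have e1 : Y.presheaf.stalk ((𝔸(σ; Y) ↘ Y) y') ≃+* Localization.AtPrime p :=
    ((Y.presheaf.stalkCongr (.of_eq hk.symm)) ≪≫ asIso (k.stalkMap a)).commRingCatIsoToRingEquiv.trans
      (StructureSheaf.stalkIso Γ((V : Scheme.{u}), ⊤) a).toRingEquiv.symm
  have e2 : (𝔸(σ; Y)).presheaf.stalk y' ≃+* Localization.AtPrime P :=
    ((𝔸(σ; Y).presheaf.stalkCongr (.of_eq hb.symm)) ≪≫ asIso (j.stalkMap b)).commRingCatIsoToRingEquiv.trans
      (StructureSheaf.stalkIso R b).toRingEquiv.symm
  exact isGeomUnibranch_of_ringEquiv e2.symm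
    (isGeomUnibranch_localization_mvPolynomial σ P p rfl (isGeomUnibranch_of_ringEquiv e1 hy))

end Groth.Agent.UnivOpen
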