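import Groth.Agent.UnivOpen.SectionComp
import Groth.Agent.FlatDvr.FibreStalk

/-!
# Universal openness along section components (EGA IV 15.6.6)
-/

set_option autoImplicit false
set_option linter.style.haveILetI false

open AlgebraicGeometry CategoryTheory Limits Topology

namespace Groth.Agent.UnivOpen

universe u

variable {X Y : Scheme.{u}} (f : X ⟶ Y)

/-- Points of a base change over a point `c` in the preimage of a geometrically irreducible subset of a fibre. -/
theorem isIrreducible_preimage_over {Y' : Scheme.{u}} (τ : Y' ⟶ Y) (c : Y') {y : Y} (hy : τ c = y) (C : Set X)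
    (hC : C ⊆ f.base ⁻¹' {y})
    (hirr : ∀ (K : Type u) [Field K] [Algebra (IsLocalRing.ResidueField (Y.presheaf.stalk y)) K],
      IsIrreducible ((FBase.bcπ (f.fiberToSpecResidueField y) K ≫ f.fiberι y).base ⁻¹' C)) :
    IsIrreducible {v : ↥(pullback f τ) | pullback.snd f τ v = c ∧ pullback.fst f τ v ∈ C} := by
  let φ : Y.residueField y ⟶ Y'.residueField c := (Y.residueFieldCongr hy).inv ≫ τ.residueFieldMap c
  have hφ : Spec.map φ ≫ Y.fromSpecResidueField y = Y'.fromSpecResidueField c ≫ τ := by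
    simp only [φ, Spec.map_comp, Category.assoc, Scheme.residueFieldCongr_inv,
      Scheme.residueFieldCongr_fromSpecResidueField, Scheme.Hom.SpecMap_residueFieldMap_fromSpecResidueField]
  letI : Algebra (IsLocalRing.ResidueField (Y.presheaf.stalk y)) (Y'.residueField c) := φ.hom.toAlgebra
  let K := Y'.residueField c
  let π := FBase.bcπ (f.fiberToSpecResidueField y) K
  let s := FBase.bcStr (f.fiberToSpecResidueField y) K
  have w₁ : π ≫ f.fiberToSpecResidueField y = s ≫ Spec.map φ := pullback.condition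
  have sq₁ : IsPullback π s (f.fiberToSpecResidueField y) (Spec.map φ) := IsPullback.of_hasPullback _ _
  have sq₂ : IsPullback (π ≫ f.fiberι y) s f (Y'.fromSpecResidueField c ≫ τ) := by
    have := sq₁.paste_horiz (IsPullback.of_hasPullback f (Y.fromSpecResidueField y))
    rwa [hφ] at this
  let m : FBase.bc (f.fiberToSpecResidueField y) K ⟶ pullback f τ :=
    pullback.lift (π ≫ f.fiberι y) (s ≫ Y'.fromSpecResidueField c) (sq₂.w.trans (Category.assoc _ _ _).symm)
  have hm₁ : m ≫ pullback.fst f τ = π ≫ f.fiberι y := pullback.lift_fst _ _ _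
  have hm₂ : m ≫ pullback.snd f τ = s ≫ Y'.fromSpecResidueField c := pullback.lift_snd _ _ _
  have sq₃ : IsPullback m s (pullback.snd f τ) (Y'.fromSpecResidueField c) :=
    IsPullback.of_right (by rwa [hm₁]) hm₂ (IsPullback.of_hasPullback f τ)
  have hrange : Set.range (Y'.fromSpecResidueField c) = {c} := Scheme.range_fromSpecResidueField c
  have hset : {v : ↥(pullback f τ) | pullback.snd f τ v = c ∧ pullback.fst f τ v ∈ C} =
      m.base '' ((π ≫ f.fiberι y).base ⁻¹' C) := by
    ext v
    constructor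
    · rintro ⟨h1, h2⟩
      obtain ⟨k, hk⟩ : c ∈ Set.range (Y'.fromSpecResidueField c) := by rw [hrange]; exact rfl
      obtain ⟨b, hb, -⟩ := Scheme.exists_preimage_of_isPullback sq₃ v k (h1.trans hk.symm)
      refine ⟨b, ?_, hb⟩
      show (π ≫ f.fiberι y) b ∈ C
      rw [← hm₁, Scheme.Hom.comp_apply, show m b = v from hb]
      exact h2
    · rintro ⟨b, hb, rfl⟩
      refine ⟨?_, ?_⟩
      · show (m ≫ pullback.snd f τ) b = c
        rw [hm₂]
        have : Y'.fromSpecResidueField c (s b) ∈ Set.range (Y'.fromSpecResidueField c) := ⟨_, rfl⟩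
        rw [hrange] at this
        exact this
      · show (m ≫ pullback.fst f τ) b ∈ C
        rw [hm₁]
        exact hb
  rw [hset]
  exact (hirr K).image _ m.continuous.continuousOn

theorem exists_dominating [LocallyOfFiniteType f] {g : Y ⟶ X} (hg : g ≫ f = 𝟙 Y)
    (hgi : ∀ (y : Y) (K : Type u) [Field K] [Algebra (IsLocalRing.ResidueField (Y.presheaf.stalk y)) K],
      IsIrreducible ((FBase.bcπ (f.fiberToSpecResidueField y) K ≫ f.fiberι y).base ⁻¹' (connectedComponentIn (f.base ⁻¹' {y}) (g.base y))))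
    (hirr : ∀ y : Y, IsIrreducible (connectedComponentIn (f.base ⁻¹' {y}) (g.base y)))
    {Y' : Scheme.{u}} (τ : Y' ⟶ Y) {c t : Y'} (htc : t ⤳ c) {ξ : X}
    (hfξ : f ξ = τ c) (hξ : ξ ∈ connectedComponentIn (f.base ⁻¹' {τ c}) (g.base (τ c)))
    (hξm : FibDim.FibMax f ξ)
    (hle : topologicalKrullDim ↥(connectedComponentIn (f.base ⁻¹' {τ c}) (g.base (τ c))) ≤
      topologicalKrullDim ↥(connectedComponentIn (f.base ⁻¹' {τ t}) (g.base (τ t))))
    (x' : ↥(pullback f τ)) (hx' : pullback.fst f τ x' = ξ) (hxc : pullback.snd f τ x' = c) :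
    ∃ z', z' ⤳ x' ∧ pullback.snd f τ z' = t := by
  obtain ⟨ζ, hfζ, hζg, hζm, hζC, hζv, hdc⟩ := exists_component_generic f (apply_section hg (τ c)) (hirr _)
  obtain rfl : ζ = ξ := hξm ζ (specializes_iff_mem_closure.2 (hζC ▸ hξ).1) (hfζ.trans hfξ.symm)
  obtain ⟨ξ₁, hfξ₁, hξ₁g, -, -, -, hdt⟩ := exists_component_generic f (apply_section hg (τ t)) (hirr _)
  rw [dim_component f (apply_section hg _) (hirr _), dim_component f (apply_section hg _) (hirr _), hdc, hdt] at hle
  have hle' : FibDim.rd f ζ ≤ FibDim.rd f ξ₁ := by exact_mod_cast hle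
  -- the generic point of the points over `C` and `c`
  have hS := isIrreducible_preimage_over f τ c rfl _ (connectedComponentIn_subset _ _) (hgi (τ c))
  let S := {v : ↥(pullback f τ) | pullback.snd f τ v = c ∧
    pullback.fst f τ v ∈ connectedComponentIn (f.base ⁻¹' {τ c}) (g.base (τ c))}
  let ω := hS.genericPoint
  have hω : IsGenericPoint ω (closure S) := hS.isGenericPoint_genericPoint_closure
  -- the section of the base change
  let g' : Y' ⟶ pullback f τ := pullback.lift (τ ≫ g) (𝟙 Y') (by rw [Category.assoc, hg, Category.comp_id, Category.id_comp])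
  have hg' : g' ≫ pullback.snd f τ = 𝟙 Y' := pullback.lift_snd _ _ _
  have hg'₁ : g' ≫ pullback.fst f τ = τ ≫ g := pullback.lift_fst _ _ _
  haveI : LocallyOfFiniteType (pullback.snd f τ) := inferInstance
  -- a top point over the generic fibre
  have hgt : pullback.fst f τ (g' t) = g (τ t) := by rw [← Scheme.Hom.comp_apply, hg'₁]; rfl
  have hS₁ := isIrreducible_preimage_over f τ t rfl _ (connectedComponentIn_subset _ _) (hgi (τ t))
  obtain ⟨v₁, hv₁p, hv₁q, hv₁r⟩ := FibDim.exists_rd_baseChange_eq (IsPullback.of_hasPullback f τ) ξ₁ t hfξ₁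
  let S₁ := {v : ↥(pullback f τ) | pullback.snd f τ v = t ∧
    pullback.fst f τ v ∈ connectedComponentIn (f.base ⁻¹' {τ t}) (g.base (τ t))}
  let ω₁ := hS₁.genericPoint
  have hω₁ : IsGenericPoint ω₁ (closure S₁) := hS₁.isGenericPoint_genericPoint_closure
  have hqω₁ : pullback.snd f τ ω₁ = t := by
    have hmem : g' t ∈ S₁ := ⟨apply_section hg' t, by rw [hgt]; exact mem_connectedComponentIn (apply_section hg _)⟩
    have h1 : pullback.snd f τ ω₁ ⤳ t :=
      ((hω₁.specializes (subset_closure hmem)).map (pullback.snd f τ).continuous).trans (specializes_of_eq (apply_section hg' t))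
    have h2 : t ⤳ pullback.snd f τ ω₁ := by
      rw [specializes_iff_mem_closure]
      refine closure_mono ?_ (image_closure_subset_closure_image (pullback.snd f τ).continuous ⟨ω₁, hω₁.mem, rfl⟩)
      exact Set.image_subset_iff.2 fun v hv => hv.1
    exact (h1.antisymm h2).eq
  have hmem₁ : g' t ∈ S₁ := ⟨apply_section hg' t, by rw [hgt]; exact mem_connectedComponentIn (apply_section hg _)⟩
  have hξ₁C : ξ₁ ∈ connectedComponentIn (f.base ⁻¹' {τ t}) (g.base (τ t)) := by
    obtain ⟨ζ₁, hfζ₁, -, hζ₁m, hζ₁C, hζ₁v, -⟩ := exists_component_generic f (apply_section hg (τ t)) (hirr _)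
    rw [hζ₁C]
    exact ⟨specializes_iff_mem_closure.1 (hζ₁v ξ₁ hfξ₁ hξ₁g), hfξ₁⟩
  have hr₁ : FibDim.rd (pullback.snd f τ) v₁ ≤ FibDim.rd (pullback.snd f τ) ω₁ :=
    FibDim.rd_le_of_specializes _ (hω₁.specializes (subset_closure ⟨hv₁q, hv₁p ▸ hξ₁C⟩)) (hqω₁.trans hv₁q.symm)
  obtain ⟨z, hωz, hzg, hqz, hrz⟩ := FibDim.exists_rd_ge (pullback.snd f τ)
    ((hω₁.specializes (subset_closure hmem₁)).trans (htc.map g'.continuous))
  rw [apply_section hg'] at hqz
  have hzS : z ∈ S := by
    refine ⟨hqz, ?_⟩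
    rw [hζC]
    have hfz : f (pullback.fst f τ z) = τ c := by
      rw [← Scheme.Hom.comp_apply, pullback.condition, Scheme.Hom.comp_apply, hqz]
    have h1 : pullback.fst f τ z ⤳ g (τ c) := by
      have := hzg.map (pullback.fst f τ).continuous
      rwa [← Scheme.Hom.comp_apply g', hg'₁] at this
    exact ⟨specializes_iff_mem_closure.1 (hζv _ hfz h1), hfz⟩
  have hqω : pullback.snd f τ ω = c := by
    have h1 : pullback.snd f τ ω ⤳ c :=
      ((hω.specializes (subset_closure hzS)).map (pullback.snd f τ).continuous).trans (specializes_of_eq hqz)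
    have h2 : c ⤳ pullback.snd f τ ω := by
      rw [specializes_iff_mem_closure]
      refine closure_mono ?_ (image_closure_subset_closure_image (pullback.snd f τ).continuous ⟨ω, hω.mem, rfl⟩)
      exact Set.image_subset_iff.2 fun v hv => hv.1
    exact (h1.antisymm h2).eq
  have hrω : FibDim.rd (pullback.snd f τ) ω ≤ FibDim.rd f ζ := by
    refine (FibDim.rd_baseChange_le (IsPullback.of_hasPullback f τ) ω).trans ?_
    have hpω : pullback.fst f τ ω ⤳ g (τ c) := by
      have := ((hω.specializes (subset_closure hzS)).trans hzg).map (pullback.fst f τ).continuous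
      rwa [← Scheme.Hom.comp_apply g', hg'₁] at this
    have hfp : f (pullback.fst f τ ω) = τ c := by
      rw [← Scheme.Hom.comp_apply, pullback.condition, Scheme.Hom.comp_apply, hqω]
    exact FibDim.rd_le_of_specializes f (hζv _ hfp hpω) (hfξ.trans hfp.symm)
  have hzω : z = ω := by
    by_contra hne
    have := FibDim.rd_lt (pullback.snd f τ) (hω.specializes (subset_closure hzS)) (Ne.symm hne) (hqω.trans hqz.symm)
    omega
  exact ⟨ω₁, hωz.trans (specializes_of_eq hzω |>.trans (hω.specializes (subset_closure ⟨hxc, hx' ▸ hξ⟩))), hqω₁⟩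

end Groth.Agent.UnivOpen

namespace Groth.Agent.UnivOpen

universe v

theorem irreducible_of_geomIrreducible {X Y : Scheme.{v}} (f : X ⟶ Y) {g : Y ⟶ X}
    (hgi : ∀ (y : Y) (K : Type v) [Field K] [Algebra (IsLocalRing.ResidueField (Y.presheaf.stalk y)) K],
      IsIrreducible ((FBase.bcπ (f.fiberToSpecResidueField y) K ≫ f.fiberι y).base ⁻¹' (connectedComponentIn (f.base ⁻¹' {y}) (g.base y))))
    (y : Y) : IsIrreducible (connectedComponentIn (f.base ⁻¹' {y}) (g.base y)) := by
  have h := hgi y (IsLocalRing.ResidueField (Y.presheaf.stalk y))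
  have hsurj : Function.Surjective (FBase.bcπ (f.fiberToSpecResidueField y) (IsLocalRing.ResidueField (Y.presheaf.stalk y))).base := by
    intro w
    obtain ⟨b, hb, -⟩ := Scheme.Pullback.exists_preimage_pullback (f := f.fiberToSpecResidueField y)
      (g := Spec.map (CommRingCat.ofHom (algebraMap (IsLocalRing.ResidueField (Y.presheaf.stalk y))
        (IsLocalRing.ResidueField (Y.presheaf.stalk y))))) w (f.fiberToSpecResidueField y w)
      (Subsingleton.elim (α := PrimeSpectrum (IsLocalRing.ResidueField (Y.presheaf.stalk y))) _ _)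
    exact ⟨b, hb⟩
  have himg := h.image (FBase.bcπ (f.fiberToSpecResidueField y) _ ≫ f.fiberι y).base
    (FBase.bcπ (f.fiberToSpecResidueField y) _ ≫ f.fiberι y).continuous.continuousOn
  rwa [Set.image_preimage_eq_of_subset ?_] at himg
  intro v hv
  obtain ⟨w, rfl⟩ : v ∈ Set.range (f.fiberι y) := by
    rw [Scheme.Hom.range_fiberι]; exact connectedComponentIn_subset _ _ hv
  obtain ⟨b, rfl⟩ := hsurj w
  exact ⟨b, rfl⟩

theorem isUnivOpenAt_sectionComponent {X Y : Scheme.{v}} [IsLocallyNoetherian Y] (f : X ⟶ Y)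
    [LocallyOfFiniteType f] {g : Y ⟶ X} (hg : g ≫ f = 𝟙 Y)
    (hgi : ∀ (y : Y) (K : Type v) [Field K] [Algebra (IsLocalRing.ResidueField (Y.presheaf.stalk y)) K],
      IsIrreducible ((FBase.bcπ (f.fiberToSpecResidueField y) K ≫ f.fiberι y).base ⁻¹' (connectedComponentIn (f.base ⁻¹' {y}) (g.base y))))
    {y : Y} (hd : ∀ y', y' ⤳ y → topologicalKrullDim ↥(connectedComponentIn (f.base ⁻¹' {y}) (g.base y)) ≤
      topologicalKrullDim ↥(connectedComponentIn (f.base ⁻¹' {y'}) (g.base y')))
    {x : X} (hx : x ∈ connectedComponentIn (f.base ⁻¹' {y}) (g.base y)) : EGA43.IsUnivOpenAt f x := by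
  have hirr := irreducible_of_geomIrreducible f hgi
  obtain ⟨ξ, hfξ, hξg, hξm, hC, hξv, -⟩ := exists_component_generic f (apply_section hg y) (hirr y)
  have hxC := hx
  rw [hC] at hxC
  refine isUnivOpenAt_of_specializes ?_ (specializes_iff_mem_closure.2 hxC.1) (hfξ.trans hxC.2.symm)
  refine (isUnivOpenAt_iff_dvr f ξ).2 fun A _ _ _ τ hτ x' hx' hxc => ?_
  let η : Spec (CommRingCat.of A) := (⟨⊥, Ideal.isPrime_bot⟩ : PrimeSpectrum A)
  have hη : η ⤳ IsLocalRing.closedPoint A := (PrimeSpectrum.le_iff_specializes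
    (⟨⊥, Ideal.isPrime_bot⟩ : PrimeSpectrum A) (IsLocalRing.closedPoint A : PrimeSpectrum A)).1 bot_le
  have hτy : τ (IsLocalRing.closedPoint A) = y := hτ.trans hfξ
  obtain ⟨z, hz, hzt⟩ := exists_dominating f hg hgi hirr τ hη (hfξ.trans hτy.symm)
    (by rw [hτy, hC]; exact ⟨subset_closure rfl, hfξ⟩) hξm
    (by rw [hτy]; exact hd _ ((hη.map τ.continuous).trans (specializes_of_eq hτy))) x' hx' hxc
  refine ⟨z, hz, fun h => ?_⟩
  exact IsDiscreteValuationRing.not_a_field A (congrArg PrimeSpectrum.asIdeal (hzt.symm.trans h)).symm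

end Groth.Agent.UnivOpen

namespace Groth.Agent.UnivOpen

universe w

/-- The finitely presented variant, without Noetherian hypotheses. -/
theorem isUnivOpenAt_sectionComponent_fp {X Y : Scheme.{w}} (f : X ⟶ Y)
    [LocallyOfFinitePresentation f] {g : Y ⟶ X} (hg : g ≫ f = 𝟙 Y)
    (hgi : ∀ (y : Y) (K : Type w) [Field K] [Algebra (IsLocalRing.ResidueField (Y.presheaf.stalk y)) K],
      IsIrreducible ((FBase.bcπ (f.fiberToSpecResidueField y) K ≫ f.fiberι y).base ⁻¹' (connectedComponentIn (f.base ⁻¹' {y}) (g.base y))))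
    {y : Y} (hd : ∀ y', y' ⤳ y → topologicalKrullDim ↥(connectedComponentIn (f.base ⁻¹' {y}) (g.base y)) ≤
      topologicalKrullDim ↥(connectedComponentIn (f.base ⁻¹' {y'}) (g.base y')))
    {x : X} (hx : x ∈ connectedComponentIn (f.base ⁻¹' {y}) (g.base y)) : EGA43.IsUnivOpenAt f x := by
  have hirr := irreducible_of_geomIrreducible f hgi
  obtain ⟨ξ, hfξ, hξg, hξm, hC, hξv, -⟩ := exists_component_generic f (apply_section hg y) (hirr y)
  have hxC := hx
  rw [hC] at hxC
  refine isUnivOpenAt_of_specializes ?_ (specializes_iff_mem_closure.2 hxC.1) (hfξ.trans hxC.2.symm)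
  refine isUnivOpenAt_of_affineSpace f ξ fun m x'' hx'' => isOpenAt_of_lifts_fp _ x'' fun t ht => ?_
  let τ := 𝔸(ULift.{w} (Fin m); Y) ↘ Y
  have hτy : τ (pullback.snd f τ x'') = y := by
    rw [← Scheme.Hom.comp_apply, ← pullback.condition, Scheme.Hom.comp_apply, hx'', hfξ]
  exact exists_dominating f hg hgi hirr τ ht (hfξ.trans hτy.symm)
    (by rw [hτy, hC]; exact ⟨subset_closure rfl, hfξ⟩) hξm
    (by rw [hτy]; exact hd _ ((ht.map τ.continuous).trans (specializes_of_eq hτy))) x'' hx'' rfl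

end Groth.Agent.UnivOpen
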