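import Groth.Agent.UnivOpen.Chevalley

/-!
# Dimension conditions attached to Chevalley's criterion (EGA IV 14.4)
-/

set_option autoImplicit false
set_option linter.style.haveILetI false

open AlgebraicGeometry CategoryTheory Limits Topology

namespace Groth.Agent.UnivOpen

universe u

variable {X Y : Scheme.{u}} (f : X ⟶ Y) [LocallyOfFiniteType f]

theorem genericPoint_maximal {Z : Scheme.{u}} [IrreducibleSpace Z] {z : Z} (h : z ⤳ genericPoint Z) :
    z = genericPoint Z :=
  (h.antisymm ((genericPoint_spec Z).specializes (Set.mem_univ z))).eq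

theorem witness_of_localDim {x : X} (hm : FibDim.FibMax f x) {Z : Set X} (hZ : Z ∈ irreducibleComponents X)
    (hx : x ∈ Z) {a : Y} (hcl : closure (f '' Z) = closure {a})
    (hdim : FlatMor.localDim ↥(Z ∩ f ⁻¹' {f x}) ⟨x, hx, rfl⟩ = topologicalKrullDim ↥(Z ∩ f ⁻¹' {a})) :
    ∃ η, η ⤳ x ∧ (∀ t, t ⤳ η → t = η) ∧ f η = a ∧ FibDim.rd f η = FibDim.rd f x := by
  obtain ⟨η, rfl, hη⟩ := FDescent.exists_maximal_of_mem_irreducibleComponents hZ
  rw [closure_image_closure f.continuous, Set.image_singleton] at hcl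
  obtain rfl : f η = a := IsGenericPoint.eq (rfl : IsGenericPoint (f η) _) (hcl.symm : IsGenericPoint a _)
  refine ⟨η, specializes_iff_mem_closure.2 hx, hη, rfl, ?_⟩
  obtain ⟨v, -, hvx, hfv, he, -⟩ := FibDim.exists_localDim_inter_eq f isClosed_closure x hx
  rw [he, FibDim.dim_closure_inter, hm v hvx hfv] at hdim
  exact_mod_cast hdim.symm

theorem component_of_witness {x z η : X} (hz : z ⤳ x) (hfz : f z = f x)
    (htop : ∀ v, v ⤳ x → f v = f x → FibDim.rd f v ≤ FibDim.rd f z) (hη : η ⤳ z)
    (hmax : ∀ t, t ⤳ η → t = η) (hr : FibDim.rd f η = FibDim.rd f z) {a : Y} (ha : f η = a) :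
    ∃ Z ∈ irreducibleComponents (X : Type u), ∃ hx : x ∈ Z, closure (f '' Z) = closure {a} ∧
      FlatMor.localDim ↥(Z ∩ f ⁻¹' {f x}) ⟨x, hx, rfl⟩ = topologicalKrullDim ↥(Z ∩ f ⁻¹' {a}) := by
  subst ha
  refine ⟨closure {η}, FDescent.closure_mem_irreducibleComponents hmax,
    specializes_iff_mem_closure.1 (hη.trans hz), ?_, ?_⟩
  · rw [closure_image_closure f.continuous, Set.image_singleton]
  · obtain ⟨v, -, hvx, hfv, he, hv⟩ := FibDim.exists_localDim_inter_eq f isClosed_closure x
      (specializes_iff_mem_closure.1 (hη.trans hz))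
    rw [he, FibDim.dim_closure_inter, hr,
      le_antisymm (htop v hvx hfv) (hv z (specializes_iff_mem_closure.1 hη) hz hfz)]

variable [IsLocallyNoetherian Y]

theorem exists_top (x : X) : ∃ z, z ⤳ x ∧ f z = f x ∧ FibDim.FibMax f z ∧
    ∀ v, v ⤳ x → f v = f x → FibDim.rd f v ≤ FibDim.rd f z := by
  obtain ⟨z, hz, hfz, hm, -, he⟩ := DimFormula.exists_fibMax_top f x
  exact ⟨z, hz, hfz, hm, fun v hv hfv => he ▸ DimFormula.rd_le_rd_add_fb f hv hfv⟩

/-- EGA IV 14.4.4: equidimensionality gives universal openness at the maximal points of the fibre. -/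
theorem isUnivOpenAt_of_equidim {x z : X} (hy : CAlg2.IsGeomUnibranch (Y.presheaf.stalk (f x)))
    (h : EGA43.IsEquidimAt f x) (hz : z ⤳ x) (hfz : f z = f x) (hm : FibDim.FibMax f z) :
    EGA43.IsUnivOpenAt f z := by
  obtain ⟨η, hη, hmax⟩ := FibDim.exists_maximal_generization z
  obtain ⟨h1, h2⟩ := DimFormula.equidim_spec f h (hη.trans hz) hmax
  refine isUnivOpenAt_of_witness f (hfz ▸ hy) hm hη hmax h1 (le_antisymm ?_ ?_)
  · have := DimFormula.rd_le_of_specializes' f hη
    rwa [(DimFormula.fb_eq_zero_iff f z).2 hm, add_zero] at this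
  · exact (DimFormula.rd_le_rd_add_fb f hz hfz).trans h2.ge

/-- EGA IV 14.4.5: equidimensionality over a geometrically unibranch point gives an equidimensional stalk. -/
theorem equidim_stalk {x : X} (hy : CAlg2.IsGeomUnibranch (Y.presheaf.stalk (f x)))
    (h : EGA43.IsEquidimAt f x) : EGA4.IsEquidim (X.presheaf.stalk x) := by
  haveI := LocallyOfFiniteType.isLocallyNoetherian f
  have key : ∀ η, η ⤳ x → (∀ t, t ⤳ η → t = η) →
      DimFormula.cd η x = DimFormula.codim (f x) + DimFormula.fb f x := by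
    intro η hη hmax
    obtain ⟨h1, h2⟩ := DimFormula.equidim_spec f h hη hmax
    have hup := (DimFormula.cd_formula f hη).1
    have hup' := DimFormula.cd_le_codim (hη.map f.continuous)
    let S : TopologicalSpace.Closeds X := ⟨closure {η}, isClosed_closure⟩
    let j := (Scheme.IdealSheafData.vanishingIdeal S).subschemeι
    have hrange : Set.range j = closure {η} := DimFormula.range_vanishingIdeal S
    haveI : IrreducibleSpace ↥(Scheme.IdealSheafData.vanishingIdeal S).subscheme := by
      haveI : IrreducibleSpace ↥(Set.range j) := by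
        rw [hrange]; exact Subtype.irreducibleSpace isIrreducible_singleton.closure
      exact j.isClosedEmbedding.isEmbedding.toHomeomorph.symm.surjective.irreducibleSpace
        j.isClosedEmbedding.isEmbedding.toHomeomorph.symm.continuous
    haveI := LocallyOfFiniteType.isLocallyNoetherian j
    obtain ⟨η', hη'⟩ : η ∈ Set.range j := by rw [hrange]; exact subset_closure rfl
    obtain ⟨x', rfl⟩ : x ∈ Set.range j := by rw [hrange]; exact specializes_iff_mem_closure.1 hη
    have hgen : ∀ w, η' ⤳ w := fun w => j.isClosedEmbedding.isInducing.specializes_iff.1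
      (specializes_iff_mem_closure.2 (by rw [hη', ← hrange]; exact ⟨w, rfl⟩))
    obtain rfl : η' = genericPoint _ := genericPoint_maximal (hgen _)
    have hcd := DimFormula.cd_eq_codim_of_irreducible x'
    rw [← DimFormula.cd_eq_of_embedding j j.isClosedEmbedding.isEmbedding (fun t ht _ => by
      rw [hrange, ← hη']; exact specializes_iff_mem_closure.1 ht), hη'] at hcd
    obtain ⟨w, hw, hfw, hwm, hc, hrw⟩ := DimFormula.codim_add_fb_le (j ≫ f) x'
    have hwr : FibDim.rd (j ≫ f) (genericPoint _) = FibDim.rd (j ≫ f) w := by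
      refine le_antisymm ?_ ?_
      · have := DimFormula.rd_le_of_specializes' (j ≫ f) (hgen w)
        rwa [(DimFormula.fb_eq_zero_iff _ w).2 hwm, add_zero] at this
      · rw [DimFormula.rd_closedSub, DimFormula.rd_closedSub, hη', h2]
        exact DimFormula.rd_le_rd_add_fb f (hw.map j.continuous) hfw
    have hopen := DimFormula.codim_le_of_isOpenAt (j ≫ f) hwm (isOpenAt_of_isUnivOpenAt
      (isUnivOpenAt_of_witness (j ≫ f) (hfw ▸ hy) hwm (hgen w) (fun t ht => genericPoint_maximal ht)
        (by rw [Scheme.Hom.comp_apply, hη']; exact h1) hwr))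
    rw [hfw] at hopen
    rw [hrw, DimFormula.rd_closedSub, DimFormula.rd_closedSub, hη', h2] at hwr
    simp only [Scheme.Hom.comp_apply] at hopen
    omega
  obtain ⟨η, hη, hmax, he⟩ := DimFormula.exists_maximal_cd_eq_codim x
  exact (DimFormula.isEquidim_iff x).2 fun η' hη' hmax' => (key η' hη' hmax').trans (he ▸ key η hη hmax).symm

/-- A universally open point over an irreducible base, closed in its fibre, has a quasi-section. -/
theorem exists_quasiSection_of_univOpen [IrreducibleSpace Y] {x : X}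
    (h : ∀ z, f z = f x → EGA43.IsOpenAt f.base z) (hcl : ∀ x', f x' = f x → x ⤳ x' → x' = x) :
    ∃ (T : Scheme.{u}) (i : T ⟶ X), DimFormula.IsQuasiSection f x i := by
  haveI := LocallyOfFiniteType.isLocallyNoetherian f
  obtain ⟨z, hz, hfz, hzm, htop⟩ := exists_top f x
  obtain ⟨η, hη, hmax, hfη, hr⟩ := exists_witness_of_isOpenAt f hzm (h z hfz) (genericPoint Y)
    ((genericPoint_spec Y).specializes (Set.mem_univ _)) fun b hb => genericPoint_maximal hb
  let S : TopologicalSpace.Closeds X := ⟨closure {η}, isClosed_closure⟩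
  let j := (Scheme.IdealSheafData.vanishingIdeal S).subschemeι
  have hrange : Set.range j = closure {η} := DimFormula.range_vanishingIdeal S
  obtain ⟨η', hη'⟩ : η ∈ Set.range j := by rw [hrange]; exact subset_closure rfl
  obtain ⟨x', rfl⟩ : x ∈ Set.range j := by rw [hrange]; exact specializes_iff_mem_closure.1 (hη.trans hz)
  obtain ⟨z', hz'⟩ : z ∈ Set.range j := by rw [hrange]; exact specializes_iff_mem_closure.1 hη
  have heq : EGA43.IsEquidimAt (j ≫ f) x' := by
    refine DimFormula.isEquidimAt_of _ fun a _ ham => ?_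
    obtain rfl : a = η' := (ham η' (j.isClosedEmbedding.isInducing.specializes_iff.1
      (specializes_iff_mem_closure.2 (by rw [hη', ← hrange]; exact ⟨a, rfl⟩)))).symm
    rw [Scheme.Hom.comp_apply, hη', hfη]
    refine ⟨fun b hb => genericPoint_maximal hb, ?_⟩
    obtain ⟨w, hw, hfw, -, -, hrw⟩ := DimFormula.exists_fibMax_top (j ≫ f) x'
    rw [← hrw, DimFormula.rd_closedSub, DimFormula.rd_closedSub, hη', hr]
    refine le_antisymm ?_ (htop _ (hw.map j.continuous) hfw)
    have h1 := DimFormula.rd_le_rd_add_fb (j ≫ f) (z := z') (x := x')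
      (j.isClosedEmbedding.isInducing.specializes_iff.1 (hz' ▸ hz)) (by simp only [Scheme.Hom.comp_apply, hz', hfz])
    rwa [← hrw, DimFormula.rd_closedSub, DimFormula.rd_closedSub, hz'] at h1
  obtain ⟨T, i, hi⟩ := DimFormula.exists_quasiSection _ (j ≫ f) x' heq rfl fun v hv hxv =>
    j.isClosedEmbedding.injective (hcl _ hv (hxv.map j.continuous))
  exact ⟨T, i ≫ j, hi.map⟩

theorem isOpenAt_of_quasiSection [IrreducibleSpace Y] {x : X}
    (hy : CAlg2.IsGeomUnibranch (Y.presheaf.stalk (f x))) {T : Scheme.{u}} {i : T ⟶ X}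
    (hi : DimFormula.IsQuasiSection f x i) : EGA43.IsOpenAt f.base x := by
  obtain ⟨_, _, _, ⟨t, rfl⟩, _, _, _, _⟩ := hi
  haveI : Nonempty T := ⟨t⟩
  haveI : IsIntegral T := isIntegral_of_irreducibleSpace_of_isReduced T
  refine isOpenAt_of_isUnivOpenAt (QHomeo.univOpenAt_of_comp (isUnivOpenAt_of_quasiFinite (i ≫ f) t
    ((i ≫ f).quasiFiniteAt t) hy (ker_stalkMap_le_nilradical (i ≫ f) t hy.1 fun b hb => ?_)))
  rw [(DimFormula.generic_fibre_dim (i ≫ f)).1] at hb ⊢
  exact genericPoint_maximal hb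

end Groth.Agent.UnivOpen
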