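import Groth.Agent.UnivOpen.UnibranchGoingDown
import Groth.Agent.FibDim.GenerizeDim

/-!
# Quasi-finite morphisms over unibranch points are open (EGA IV 14.4.1.3)
-/

set_option autoImplicit false
set_option linter.style.haveILetI false

open AlgebraicGeometry CategoryTheory Limits Topology

namespace Groth.Agent.UnivOpen

universe u

variable {X Y : Scheme.{u}} (f : X ⟶ Y)

/-- Openness at a point by lifting generizations, for finitely presented morphisms. -/
theorem isOpenAt_of_lifts_fp [LocallyOfFinitePresentation f] (x : X)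
    (h : ∀ t, t ⤳ f x → ∃ ζ, ζ ⤳ x ∧ f ζ = t) : EGA43.IsOpenAt f.base x := by
  intro N hN
  obtain ⟨V, hV, hxV, -⟩ := exists_isAffineOpen_mem_and_subset (x := f x) (U := ⊤) trivial
  obtain ⟨N', hN'N, hN'o, hxN'⟩ := mem_nhds_iff.1 hN
  obtain ⟨U, hU, hxU, hsub⟩ := exists_isAffineOpen_mem_and_subset (x := x)
    (U := f ⁻¹ᵁ V ⊓ ⟨N', hN'o⟩) ⟨hxV, hxN'⟩
  have hUV : U ≤ f ⁻¹ᵁ V := fun z hz => (hsub hz).1
  haveI : IsAffine (U : Scheme.{u}) := hU
  haveI : IsAffine (V : Scheme.{u}) := hV
  haveI : LocallyOfFinitePresentation (f.resLE V U hUV) := inferInstance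
  have hC : IsLocallyConstructible (f.resLE V U hUV '' Set.univ) :=
    (f.resLE V U hUV).isLocallyConstructible_image IsLocallyConstructible.univ
  have himg := FibDim.mem_nhds_of_generizations hC (y := f.resLE V U hUV ⟨x, hxU⟩) fun t ht => by
      have ht' := ht.map V.ι.continuous
      obtain ⟨ζ, hζ, hfζ⟩ := h (V.ι t) (ht'.trans (specializes_of_eq (FibDim.fiber_apply_resLE f hUV _)))
      refine ⟨⟨ζ, hζ.mem_open U.isOpen hxU⟩, trivial, V.ι.isOpenEmbedding.injective ?_⟩
      exact (FibDim.fiber_apply_resLE f hUV _).trans hfζ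
  have h2 := V.ι.isOpenEmbedding.isOpenMap.image_mem_nhds himg
  rw [show V.ι (f.resLE V U hUV ⟨x, hxU⟩) = f x from FibDim.fiber_apply_resLE f hUV _] at h2
  refine Filter.mem_of_superset h2 ?_
  rintro _ ⟨_, ⟨u, -, rfl⟩, rfl⟩
  exact ⟨U.ι u, hN'N (hsub u.2).2, (FibDim.fiber_apply_resLE f hUV u).symm⟩

theorem fromSpecStalk_specializes {x : X} (P : PrimeSpectrum (X.presheaf.stalk x)) : X.fromSpecStalk x P ⤳ x := by
  have : X.fromSpecStalk x P ∈ Set.range (X.fromSpecStalk x) := ⟨P, rfl⟩
  rwa [Scheme.range_fromSpecStalk] at this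

theorem map_fromSpecStalk {x : X} (P : PrimeSpectrum (X.presheaf.stalk x)) :
    f (X.fromSpecStalk x P) = Y.fromSpecStalk (f x) (PrimeSpectrum.comap (f.stalkMap x).hom P) := by
  show (X.fromSpecStalk x ≫ f) P = _
  rw [← Scheme.SpecMap_stalkMap_fromSpecStalk f]
  rfl

/-- The maximal generization inside the local scheme is given by the nilradical. -/
theorem fromSpecStalk_nilradical [IrreducibleSpace X] (x : X) :
    (nilradical (X.presheaf.stalk x)).IsPrime ∧
      ∀ h : (nilradical (X.presheaf.stalk x)).IsPrime,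
        X.fromSpecStalk x (⟨nilradical _, h⟩ : PrimeSpectrum (X.presheaf.stalk x)) = genericPoint X := by
  have hgx : genericPoint X ⤳ x := (genericPoint_spec X).specializes (Set.mem_univ x)
  obtain ⟨q, hq⟩ : genericPoint X ∈ Set.range (X.fromSpecStalk x) := by
    rw [Scheme.range_fromSpecStalk]; exact hgx
  have hle : ∀ P : PrimeSpectrum (X.presheaf.stalk x), (q : PrimeSpectrum (X.presheaf.stalk x)).asIdeal ≤ P.asIdeal :=
    fun P => (PrimeSpectrum.le_iff_specializes (q : PrimeSpectrum (X.presheaf.stalk x)) P).2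
      ((X.fromSpecStalk x).isEmbedding.isInducing.specializes_iff.1
        (hq.symm ▸ (genericPoint_spec X).specializes (Set.mem_univ _)))
  have e : (q : PrimeSpectrum (X.presheaf.stalk x)).asIdeal = nilradical _ := by
    refine le_antisymm ?_ (nilradical_le_prime _ (H := (q : PrimeSpectrum (X.presheaf.stalk x)).isPrime))
    rw [nilradical_eq_sInf]
    exact le_sInf fun P hP => hle ⟨P, hP⟩
  refine ⟨e ▸ (q : PrimeSpectrum (X.presheaf.stalk x)).isPrime, fun h => ?_⟩
  rw [← hq]
  exact congrArg _ (PrimeSpectrum.ext e.symm)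

/-- EGA IV 14.4.1.3. -/
theorem isOpenAt_of_quasiFinite_unibranch [IrreducibleSpace X] [IrreducibleSpace Y] [LocallyOfFinitePresentation f]
    [IsDominant f] (x : X) (hqf : f.QuasiFiniteAt x) (hy : CAlg2.IsUnibranch (Y.presheaf.stalk (f x))) :
    EGA43.IsOpenAt f.base x := by
  refine isOpenAt_of_lifts_fp f x fun t ht => ?_
  haveI := hy.1
  let O := Y.presheaf.stalk (f x)
  let S := X.presheaf.stalk x
  obtain ⟨hS, hS'⟩ := fromSpecStalk_nilradical x
  haveI := hS
  let Sr := S ⧸ nilradical S
  haveI : IsDomain Sr := (Ideal.Quotient.isDomain_iff_prime _).2 hS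
  haveI : IsLocalRing Sr := IsLocalRing.of_surjective' _ Ideal.Quotient.mk_surjective
  haveI : IsLocalRing (CAlg2.red O) := IsLocalRing.of_surjective' _ Ideal.Quotient.mk_surjective
  let φ : O →+* Sr := (Ideal.Quotient.mk (nilradical S)).comp (f.stalkMap x).hom
  let φr : CAlg2.red O →+* Sr :=
    Ideal.Quotient.lift _ φ fun a ha => (IsNilpotent.map ha φ).eq_zero
  have hgen : f (genericPoint X) = genericPoint Y := by
    have h1 : IsGenericPoint (f (genericPoint X)) Set.univ := by
      rw [IsGenericPoint, ← Set.image_singleton, ← closure_image_closure f.continuous, (genericPoint_spec X).def,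
        Set.image_univ, f.denseRange.closure_range]
    exact h1.eq (genericPoint_spec Y)
  obtain ⟨hO, hO'⟩ := fromSpecStalk_nilradical (f x)
  have hker : RingHom.ker φ ≤ nilradical O := by
    have h1 := map_fromSpecStalk f (x := x) ⟨nilradical S, hS⟩
    rw [hS' hS, hgen, ← hO' hO] at h1
    have h2 := congrArg PrimeSpectrum.asIdeal ((Y.fromSpecStalk (f x)).isEmbedding.injective h1)
    intro a ha
    rw [show nilradical O = _ from h2, PrimeSpectrum.comap_asIdeal, Ideal.mem_comap]
    exact Ideal.Quotient.eq_zero_iff_mem.1 ha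
  have hφr : Function.Injective φr := RingHom.lift_injective_of_ker_le_ideal _ _ hker
  letI : Algebra (CAlg2.red O) Sr := φr.toAlgebra
  letI algOS : Algebra O S := (f.stalkMap x).hom.toAlgebra
  let C := integralClosure (CAlg2.red O) Sr
  have hfrac : ∀ s : S, ∃ c d : C, IsUnit d.1 ∧ Ideal.Quotient.mk (nilradical S) s * d.1 = c.1 := fun s => by
    obtain ⟨⟨c, P, hP, hPc⟩, ⟨d, P', hP', hP'd⟩, hd, he⟩ := exists_fraction_of_quasiFiniteAt f hqf s
    have key : ∀ (b : S) (Q : Polynomial O), Polynomial.eval₂ (algebraMap O S) b Q = 0 →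
        Polynomial.eval₂ (algebraMap (CAlg2.red O) Sr) (Ideal.Quotient.mk (nilradical S) b)
          (Q.map (Ideal.Quotient.mk (nilradical O))) = 0 := fun b Q hQ => by
      rw [Polynomial.eval₂_map]
      exact (Polynomial.hom_eval₂ Q (algebraMap O S) (Ideal.Quotient.mk (nilradical S)) b).symm.trans
        (by rw [hQ, map_zero])
    exact ⟨⟨_, P.map _, hP.map _, key c P hPc⟩, ⟨_, P'.map _, hP'.map _, key d P' hP'd⟩, hd.map _,
      (map_mul _ _ _).symm.trans (congrArg _ he)⟩
  let M : Submonoid C := (IsUnit.submonoid Sr).comap C.val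
  haveI : IsLocalization M Sr :=
    { map_units := fun m => m.2
      surj := fun s => by
        obtain ⟨s, rfl⟩ := Ideal.Quotient.mk_surjective s
        obtain ⟨c, d, hd, he⟩ := hfrac s
        exact ⟨⟨c, ⟨d, hd⟩⟩, he⟩
      exists_of_eq := fun h => ⟨1, by rw [Subtype.val_injective h]⟩ }
  obtain ⟨t', ht'⟩ : t ∈ Set.range (Y.fromSpecStalk (f x)) := by rw [Scheme.range_fromSpecStalk]; exact ht
  let p0 : Ideal (CAlg2.red O) := (t' : PrimeSpectrum O).asIdeal.map (Ideal.Quotient.mk (nilradical O))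
  haveI : (t' : PrimeSpectrum O).asIdeal.IsPrime := (t' : PrimeSpectrum O).isPrime
  haveI : p0.IsPrime := Ideal.map_isPrime_of_surjective Ideal.Quotient.mk_surjective
    (by rw [Ideal.mk_ker]; exact nilradical_le_prime _)
  let n : Ideal C := (IsLocalRing.maximalIdeal Sr).comap C.val.toRingHom
  haveI : n.IsPrime := Ideal.IsPrime.comap _
  have hn : n.comap (algebraMap (CAlg2.red O) C) = IsLocalRing.maximalIdeal (CAlg2.red O) := by
    refine le_antisymm (IsLocalRing.le_maximalIdeal_of_isPrime _) fun a ha => ?_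
    obtain ⟨a, rfl⟩ := Ideal.Quotient.mk_surjective a
    show Ideal.Quotient.mk (nilradical S) ((f.stalkMap x).hom a) ∈ IsLocalRing.maximalIdeal Sr
    have h1 : ¬ IsUnit a := fun hu => ha (hu.map _)
    refine fun hu => h1 (isUnit_of_map_unit (f.stalkMap x).hom a ?_)
    haveI : IsLocalHom (Ideal.Quotient.mk (nilradical S)) := .of_surjective _ Ideal.Quotient.mk_surjective
    exact isUnit_of_map_unit (Ideal.Quotient.mk (nilradical S)) _ hu
  haveI := hy.2
  haveI : IsFractionRing (CAlg2.normRed O) (FractionRing (CAlg2.red O)) :=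
    integralClosure.isFractionRing_of_finite_extension (FractionRing (CAlg2.red O)) _
  haveI : IsIntegrallyClosed (CAlg2.normRed O) :=
    integralClosure.isIntegrallyClosedOfFiniteExtension (FractionRing (CAlg2.red O))
  obtain ⟨q, hq, hqn, hqp⟩ := exists_prime_le_of_local_normalization (D := CAlg2.normRed O)
    (fun a b hab => IsFractionRing.injective _ (FractionRing (CAlg2.red O)) (congrArg Subtype.val hab))
    (fun a b hab => hφr (congrArg Subtype.val hab)) n hn p0
  have hdisj : Disjoint (M : Set C) q := Set.disjoint_left.2 fun m hm hmq =>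
    (IsLocalRing.mem_maximalIdeal _).1 (hqn hmq) hm
  let P : Ideal Sr := q.map (algebraMap C Sr)
  haveI : P.IsPrime := IsLocalization.isPrime_of_isPrime_disjoint M Sr q hq hdisj
  refine ⟨X.fromSpecStalk x (⟨P.comap (Ideal.Quotient.mk (nilradical S)), inferInstance⟩ : PrimeSpectrum S),
    fromSpecStalk_specializes _, ?_⟩
  rw [map_fromSpecStalk, ← ht']
  refine congrArg _ (PrimeSpectrum.ext ?_)
  show (P.comap (Ideal.Quotient.mk (nilradical S))).comap (f.stalkMap x).hom = _
  have e1 : φ = (algebraMap C Sr).comp ((algebraMap (CAlg2.red O) C).comp (Ideal.Quotient.mk (nilradical O))) := rfl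
  rw [Ideal.comap_comap, show (Ideal.Quotient.mk (nilradical S)).comp (f.stalkMap x).hom = φ from rfl, e1,
    ← Ideal.comap_comap, show P.comap (algebraMap C Sr) = q from IsLocalization.under_map_of_isPrime_disjoint M Sr hq hdisj,
    ← Ideal.comap_comap, hqp]
  exact (Ideal.comap_map_of_surjective _ Ideal.Quotient.mk_surjective _).trans (by
    rw [← RingHom.ker_eq_comap_bot, Ideal.mk_ker, sup_eq_left]; exact nilradical_le_prime _)

end Groth.Agent.UnivOpen
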