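import Groth.Agent.UnivOpen.SectionUnivOpen
import Groth.Agent.FlatDvr.Connected

/-!
# Local constancy of the dimension of section components (EGA IV 15.6.7)
-/

set_option autoImplicit false
set_option linter.style.haveILetI false

open AlgebraicGeometry CategoryTheory Limits Topology IsLocalRing

namespace Groth.Agent.UnivOpen

universe u

variable {X Y : Scheme.{u}} (f : X ⟶ Y)

/-- The fibres of a base change are reduced at points over geometrically reduced points. -/
theorem isReduced_fibre_baseChange {Y' : Scheme.{u}} (τ : Y' ⟶ Y) {c : Y'} {y : Y} (hy : τ c = y)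
    (a : ↥(f.fiber y)) (ha : FBase.IsGeomReducedAt (f.fiberToSpecResidueField y) a)
    (w : ↥((pullback.snd f τ).fiber c))
    (hw : pullback.fst f τ ((pullback.snd f τ).fiberι c w) = f.fiberι y a) :
    _root_.IsReduced (((pullback.snd f τ).fiber c).presheaf.stalk w) := by
  let φ : Y.residueField y ⟶ Y'.residueField c := (Y.residueFieldCongr hy).inv ≫ τ.residueFieldMap c
  have hφ : Spec.map φ ≫ Y.fromSpecResidueField y = Y'.fromSpecResidueField c ≫ τ := by
    simp only [φ, Spec.map_comp, Category.assoc, Scheme.residueFieldCongr_inv,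
      Scheme.residueFieldCongr_fromSpecResidueField, Scheme.Hom.SpecMap_residueFieldMap_fromSpecResidueField]
  letI : Algebra (IsLocalRing.ResidueField (Y.presheaf.stalk y)) (Y'.residueField c) := φ.hom.toAlgebra
  let K := Y'.residueField c
  let π := FBase.bcπ (f.fiberToSpecResidueField y) K
  let s := FBase.bcStr (f.fiberToSpecResidueField y) K
  have sq₁ : IsPullback π s (f.fiberToSpecResidueField y) (Spec.map φ) := IsPullback.of_hasPullback _ _
  have sq₂ : IsPullback (π ≫ f.fiberι y) s f (Y'.fromSpecResidueField c ≫ τ) := by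
    have := sq₁.paste_horiz (IsPullback.of_hasPullback f (Y.fromSpecResidueField y))
    rwa [hφ] at this
  let m : FBase.bc (f.fiberToSpecResidueField y) K ⟶ pullback f τ :=
    pullback.lift (π ≫ f.fiberι y) (s ≫ Y'.fromSpecResidueField c) (sq₂.w.trans (Category.assoc _ _ _).symm)
  have hm₁ : m ≫ pullback.fst f τ = π ≫ f.fiberι y := pullback.lift_fst _ _ _
  have hm₂ : m ≫ pullback.snd f τ = s ≫ Y'.fromSpecResidueField c := pullback.lift_snd _ _ _
  have sq₃ : IsPullback m s (pullback.snd f τ) (Y'.fromSpecResidueField c) :=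
    IsPullback.of_right (by rwa [hm₁]) hm₂ (IsPullback.of_hasPullback f τ)
  let e : (pullback.snd f τ).fiber c ⟶ FBase.bc (f.fiberToSpecResidueField y) K := sq₃.isoPullback.inv
  haveI : IsIso e := inferInstanceAs (IsIso sq₃.isoPullback.inv)
  have he : e ≫ m = (pullback.snd f τ).fiberι c := IsPullback.isoPullback_inv_fst sq₃
  have hb : (FBase.bcπ (f.fiberToSpecResidueField y) K).base (e w) = a := by
    refine (f.fiberι y).isEmbedding.injective ?_
    rw [← hw, ← he]
    show (π ≫ f.fiberι y) (e w) = (m ≫ pullback.fst f τ) (e w)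
    rw [hm₁]
  haveI := ha K (e w) hb
  exact isReduced_of_injective (CategoryTheory.inv (e.stalkMap w)).hom
    (ConcreteCategory.bijective_of_isIso (CategoryTheory.inv (e.stalkMap w))).1

/-- EGA IV 15.6.7 (α): the dimension does not drop at a generization. -/
theorem dim_le_of_geomReduced [IsLocallyNoetherian Y] [LocallyOfFiniteType f] {g : Y ⟶ X} (hg : g ≫ f = 𝟙 Y)
    (hgi : ∀ (y : Y) (K : Type u) [Field K] [Algebra (IsLocalRing.ResidueField (Y.presheaf.stalk y)) K],
      IsIrreducible ((FBase.bcπ (f.fiberToSpecResidueField y) K ≫ f.fiberι y).base ⁻¹' (connectedComponentIn (f.base ⁻¹' {y}) (g.base y))))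
    {y₀ y' : Y} (hy : y' ⤳ y₀) (hne : y₀ ≠ y')
    (hopen : ∀ ξ ∈ connectedComponentIn (f.base ⁻¹' {y₀}) (g.base y₀),
      connectedComponentIn (f.base ⁻¹' {y₀}) (g.base y₀) ⊆ closure {ξ} → EGA43.IsUnivOpenAt f ξ)
    (a : ↥(f.fiber y₀)) (ha₀ : f.fiberι y₀ a = g y₀) (hred : FBase.IsGeomReducedAt (f.fiberToSpecResidueField y₀) a) :
    topologicalKrullDim ↥(connectedComponentIn (f.base ⁻¹' {y₀}) (g.base y₀)) ≤
      topologicalKrullDim ↥(connectedComponentIn (f.base ⁻¹' {y'}) (g.base y')) := by
  have hirr := irreducible_of_geomIrreducible f hgi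
  obtain ⟨A, _, _, _, τ, hτc, hτη⟩ := exists_dvr_lift hy hne
  haveI : IsLocallyNoetherian (Spec (CommRingCat.of A)) := inferInstance
  let η : Spec (CommRingCat.of A) := (⟨⊥, Ideal.isPrime_bot⟩ : PrimeSpectrum A)
  let c : Spec (CommRingCat.of A) := closedPoint A
  have hηne : η ≠ c := fun h => IsDiscreteValuationRing.not_a_field A (congrArg PrimeSpectrum.asIdeal h).symm
  have hcases : ∀ t : Spec (CommRingCat.of A), t ≠ c → t = η := fun t ht => by
    refine PrimeSpectrum.ext ?_
    by_contra h
    exact ht (PrimeSpectrum.ext (IsLocalRing.eq_maximalIdeal ((t : PrimeSpectrum A).isPrime.isMaximal h)))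
  have hτ : τ η = y' := hτη η hηne
  have hηc : η ⤳ c := (PrimeSpectrum.le_iff_specializes
    (⟨⊥, Ideal.isPrime_bot⟩ : PrimeSpectrum A) (closedPoint A : PrimeSpectrum A)).1 bot_le
  let q := pullback.snd f τ
  let p := pullback.fst f τ
  let g' : Spec (CommRingCat.of A) ⟶ pullback f τ := pullback.lift (τ ≫ g) (𝟙 _)
    (by rw [Category.assoc, hg, Category.comp_id, Category.id_comp])
  have hg' : g' ≫ q = 𝟙 _ := pullback.lift_snd _ _ _
  have hg'₁ : g' ≫ p = τ ≫ g := pullback.lift_fst _ _ _
  have hpg : ∀ t, p (g' t) = g (τ t) := fun t => by rw [← Scheme.Hom.comp_apply, hg'₁]; rfl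
  obtain ⟨ξ, hfξ, hξg, hξm, hC, hξv, hdC⟩ := exists_component_generic f (apply_section hg y₀) (hirr y₀)
  obtain ⟨ξ', hfξ', -, -, hC', hξ'v, hdC'⟩ := exists_component_generic f (apply_section hg y') (hirr y')
  rw [dim_component f (apply_section hg _) (hirr _), dim_component f (apply_section hg _) (hirr _), hdC, hdC']
  suffices FibDim.rd f ξ ≤ FibDim.rd f ξ' by exact_mod_cast this
  -- the generic point of the closed fibre at the section
  obtain ⟨v, hvp, hvq, hvr⟩ := FibDim.exists_rd_baseChange_eq (IsPullback.of_hasPullback f τ) ξ c (hfξ.trans hτc.symm)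
  have hS := isIrreducible_preimage_over f τ c hτc _ (connectedComponentIn_subset _ _) (hgi y₀)
  let S := {v : ↥(pullback f τ) | q v = c ∧ p v ∈ connectedComponentIn (f.base ⁻¹' {y₀}) (g.base y₀)}
  let ω := hS.genericPoint
  have hω : IsGenericPoint ω (closure S) := hS.isGenericPoint_genericPoint_closure
  have hgS : g' c ∈ S := ⟨apply_section hg' c, by
    rw [hpg, hτc]; exact mem_connectedComponentIn (apply_section hg _)⟩
  have hωg : ω ⤳ g' c := hω.specializes (subset_closure hgS)
  have hqω : q ω = c := by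
    have h1 : q ω ⤳ c := (hωg.map q.continuous).trans (specializes_of_eq (apply_section hg' c))
    have h2 : c ⤳ q ω := by
      rw [specializes_iff_mem_closure]
      refine closure_mono ?_ (image_closure_subset_closure_image q.continuous ⟨ω, hω.mem, rfl⟩)
      exact Set.image_subset_iff.2 fun v hv => hv.1
    exact (h1.antisymm h2).eq
  have hωv : ω ⤳ v := hω.specializes (subset_closure ⟨hvq, by
    show p v ∈ _
    rw [show p v = ξ from hvp, hC]
    exact ⟨subset_closure rfl, hfξ⟩⟩)
  have hpω : p ω = ξ := by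
    refine hξm _ ((hωv.map p.continuous).trans (specializes_of_eq hvp)) ?_
    rw [← Scheme.Hom.comp_apply, pullback.condition, Scheme.Hom.comp_apply, hqω, hτc, hfξ]
  have hωm : FibDim.FibMax q ω := fun z hz hqz => by
    have hzg := hz.trans hωg
    have hfz : f (p z) = y₀ := by
      rw [← Scheme.Hom.comp_apply, pullback.condition, Scheme.Hom.comp_apply, hqz, hqω, hτc]
    have hzC : p z ∈ connectedComponentIn (f.base ⁻¹' {y₀}) (g.base y₀) := by
      rw [hC]
      refine ⟨specializes_iff_mem_closure.1 (hξv _ hfz ?_), hfz⟩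
      have := hzg.map p.continuous
      rwa [hpg, hτc] at this
    exact (hz.antisymm (hω.specializes (subset_closure ⟨hqz.trans hqω, hzC⟩))).eq
  have hωopen : EGA43.IsOpenAt q.base ω :=
    hopen ξ (by rw [hC]; exact ⟨subset_closure rfl, hfξ⟩) (by rw [hC]; exact Set.inter_subset_left) _ τ ω hpω
  obtain ⟨z, hz, hqz, hrz⟩ := FibDim.exists_generization_rd_ge q hωopen (y' := η) (by rw [hqω]; exact hηc)
  have hr : FibDim.rd f ξ ≤ FibDim.rd q ω :=
    hvr ▸ FibDim.rd_le_of_specializes q hωv (hqω.trans hvq.symm)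
  refine (hr.trans (hrz.trans (FibDim.rd_baseChange_le (IsPullback.of_hasPullback f τ) z))).trans ?_
  -- the point of the generic fibre lies in the component of the section
  have hfz : f (p z) = y' := by
    rw [← Scheme.Hom.comp_apply, pullback.condition, Scheme.Hom.comp_apply, hqz, hτ]
  suffices hmem : p z ∈ connectedComponentIn (f.base ⁻¹' {y'}) (g.base y') by
    rw [hC'] at hmem
    exact FibDim.rd_le_of_specializes f (specializes_iff_mem_closure.2 hmem.1) (hfξ'.trans hfz.symm)
  obtain ⟨w, hw⟩ : g' c ∈ Set.range (q.fiberι c) := by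
    rw [Scheme.Hom.range_fiberι]; exact apply_section hg' c
  have hwred := isReduced_fibre_baseChange f τ hτc a hred w
    (by rw [hw, ha₀]; exact (hpg c).trans (congrArg g hτc))
  have hzw : z ⤳ q.fiberι c w := by rw [hw]; exact hz.trans hωg
  have hgw : g' η ⤳ q.fiberι c w := by rw [hw]; exact hηc.map g'.continuous
  have hqopen : ∀ z', z' ⤳ q.fiberι c w → q z' = q (q.fiberι c w) → FibDim.FibMax q z' →
      EGA43.IsOpenAt q.base z' := by
    intro z' hz' hqz' hm'
    rw [hw] at hz' hqz'
    rw [apply_section hg'] at hqz'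
    have hfz' : f (p z') = y₀ := by
      rw [← Scheme.Hom.comp_apply, pullback.condition, Scheme.Hom.comp_apply, hqz', hτc]
    have hz'C : p z' ∈ connectedComponentIn (f.base ⁻¹' {y₀}) (g.base y₀) := by
      rw [hC]
      refine ⟨specializes_iff_mem_closure.1 (hξv _ hfz' ?_), hfz'⟩
      have := hz'.map p.continuous
      rwa [hpg, hτc] at this
    obtain rfl : ω = z' := hm' ω (hω.specializes (subset_closure ⟨hqz', hz'C⟩)) (hqω.trans hqz'.symm)
    exact hωopen
  have hfib : ∀ z', q z' = η → f (p z') = y' := fun z' h => by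
    rw [← Scheme.Hom.comp_apply, pullback.condition, Scheme.Hom.comp_apply, h, hτ]
  obtain ⟨T, hT, hzT, hgT⟩ := FlatDvr.exists_preconnected_generic q rfl w hqopen hwred hzw hgw
    (fun h => hηne (hqz.symm.trans h)) (fun h => hηne ((apply_section hg' η).symm.trans h))
  have hTη : ∀ t ∈ T, q t = η := fun t ht => hcases _ (hT.2 t ht)
  refine (hT.1.image p p.continuous.continuousOn).subset_connectedComponentIn
    ⟨g' η, hgT, (hpg η).trans (congrArg g hτ)⟩ ?_ ⟨z, hzT, rfl⟩
  rintro _ ⟨t, ht, rfl⟩
  exact hfib t (hTη t ht)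

end Groth.Agent.UnivOpen
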