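import Groth.Agent.UnivOpen.QuasiFiniteUnibranch

/-!
# Geometrically unibranch rings and polynomial extensions (EGA IV 14.4.1.1)
-/

set_option autoImplicit false
set_option linter.style.haveILetI false

open MvPolynomial

namespace Groth.Agent.UnivOpen

universe u

/-- A local domain whose normalization is local with purely inseparable residue extension. -/
def GU (A : Type u) [CommRing A] : Prop :=
  IsDomain A ∧ IsLocalRing A ∧ ∃ (D : Type u) (_ : CommRing D) (_ : IsDomain D) (_ : IsLocalRing D) (_ : Algebra A D),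
    IsIntegrallyClosed D ∧ Function.Injective (algebraMap A D) ∧ Algebra.IsIntegral A D ∧
    (∀ d : D, ∃ (k : ℕ) (a : A),
      d ^ (ringExpChar (IsLocalRing.ResidueField D)) ^ k - algebraMap A D a ∈ IsLocalRing.maximalIdeal D) ∧
    ∀ d : D, ∃ a s : A, s ≠ 0 ∧ algebraMap A D s * d = algebraMap A D a

theorem GU.of_isGeomUnibranch {O : Type u} [CommRing O] [IsLocalRing O] (h : CAlg2.IsGeomUnibranch O) :
    GU (CAlg2.red O) := by
  obtain ⟨hdom, hloc, hnorm, hinj, hint, hins⟩ := geomUnibranch_data h
  haveI := hdom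
  haveI := hloc
  refine ⟨hdom, IsLocalRing.of_surjective' _ Ideal.Quotient.mk_surjective, CAlg2.normRed O, inferInstance,
    inferInstance, hloc, inferInstance, hnorm, hinj, hint, fun d => hins d, fun d => ?_⟩
  obtain ⟨⟨a, s⟩, h⟩ := IsLocalization.surj (nonZeroDivisors (CAlg2.red O)) (d : FractionRing (CAlg2.red O))
  refine ⟨a, s.1, nonZeroDivisors.ne_zero s.2, Subtype.val_injective ?_⟩
  rw [MulMemClass.coe_mul, mul_comm]
  exact h

theorem GU.of_ringEquiv {A A' : Type u} [CommRing A] [CommRing A'] (e : A' ≃+* A) (h : GU A) : GU A' := by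
  obtain ⟨hdom, hloc, D, _, _, _, _, hn, hinj, hint, hins, hbir⟩ := h
  letI : Algebra A' D := ((algebraMap A D).comp e.toRingHom).toAlgebra
  refine ⟨e.toMulEquiv.isDomain A, e.symm.isLocalRing, D, inferInstance, inferInstance, inferInstance,
    inferInstance, hn, hinj.comp e.injective, ⟨fun d => ?_⟩, fun d => ?_, fun d => ?_⟩
  · obtain ⟨P, hP, he⟩ := hint.isIntegral d
    refine ⟨P.map e.symm.toRingHom, hP.map _, ?_⟩
    rw [Polynomial.eval₂_map, show (algebraMap A' D).comp e.symm.toRingHom = algebraMap A D from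
      RingHom.ext fun a => congrArg (algebraMap A D) (e.apply_symm_apply a), he]
  · obtain ⟨k, a, ha⟩ := hins d
    refine ⟨k, e.symm a, ?_⟩
    show _ - algebraMap A D (e (e.symm a)) ∈ _
    rwa [e.apply_symm_apply]
  · obtain ⟨a, s, hs, h⟩ := hbir d
    refine ⟨e.symm a, e.symm s, fun h0 => hs (by simpa using congrArg e h0), ?_⟩
    show algebraMap A D (e (e.symm s)) * d = algebraMap A D (e (e.symm a))
    rwa [e.apply_symm_apply, e.apply_symm_apply]

theorem GU.isGeomUnibranch {O : Type u} [CommRing O] [IsLocalRing O] (h : GU (CAlg2.red O)) :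
    CAlg2.IsGeomUnibranch O := by
  obtain ⟨hdom, hloc, D, _, _, _, _, hn, hinj, hint, hins, hbir⟩ := h
  haveI := hdom
  haveI := hn
  haveI := hint
  haveI : FaithfulSMul (CAlg2.red O) D := (faithfulSMul_iff_algebraMap_injective _ _).2 hinj
  let F := FractionRing D
  let ι : FractionRing (CAlg2.red O) →+* F :=
    IsFractionRing.lift (g := (algebraMap D F).comp (algebraMap (CAlg2.red O) D))
      ((IsFractionRing.injective D F).comp hinj)
  have hι : ∀ a, ι (algebraMap _ _ a) = algebraMap D F (algebraMap (CAlg2.red O) D a) := fun a =>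
    IsFractionRing.lift_algebraMap _ a
  have hιs : ∀ d : D, ∃ x, ι x = algebraMap D F d := fun d => by
    obtain ⟨a, s, hs, h⟩ := hbir d
    refine ⟨algebraMap _ _ a / algebraMap _ _ s, ?_⟩
    rw [map_div₀, hι, hι, div_eq_iff
      ((map_ne_zero_iff _ (IsFractionRing.injective D F)).2 ((map_ne_zero_iff _ hinj).2 hs)), ← map_mul,
      mul_comm, h]
  choose j hj using hιs
  let jh : D →+* FractionRing (CAlg2.red O) :=
    { toFun := j
      map_one' := ι.injective (by rw [hj, map_one, map_one])
      map_mul' := fun a b => ι.injective (by rw [hj, map_mul ι, hj, hj, map_mul])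
      map_zero' := ι.injective (by rw [hj, map_zero, map_zero])
      map_add' := fun a b => ι.injective (by rw [hj, map_add ι, hj, hj, map_add]) }
  have hjA : ∀ a, jh (algebraMap (CAlg2.red O) D a) = algebraMap _ _ a := fun a =>
    ι.injective ((hj _).trans (hι a).symm)
  let jA : D →ₐ[CAlg2.red O] FractionRing (CAlg2.red O) := { jh with commutes' := hjA }
  let j' : D →ₐ[CAlg2.red O] CAlg2.normRed O :=
    jA.codRestrict _ fun d => (Algebra.IsIntegral.isIntegral (R := CAlg2.red O) d).map jA
  have hsurj : Function.Surjective j' := fun x => by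
    obtain ⟨P, hP, he⟩ := x.2
    have hi : IsIntegral D (ι x.1) := by
      refine ⟨P.map (algebraMap (CAlg2.red O) D), hP.map _, ?_⟩
      rw [Polynomial.eval₂_map,
        show (algebraMap D F).comp (algebraMap (CAlg2.red O) D) = ι.comp (algebraMap _ _) from
          RingHom.ext fun a => (hι a).symm, ← Polynomial.hom_eval₂, he, map_zero]
    obtain ⟨d, hd⟩ := IsIntegrallyClosed.isIntegral_iff.1 hi
    exact ⟨d, Subtype.ext (ι.injective ((hj d).trans hd))⟩
  haveI : Nontrivial (CAlg2.normRed O) := inferInstance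
  haveI : IsLocalRing (CAlg2.normRed O) := IsLocalRing.of_surjective' j'.toRingHom hsurj
  refine ⟨⟨hdom, inferInstance⟩, fun m' _ x => ?_⟩
  obtain ⟨x, rfl⟩ := Ideal.Quotient.mk_surjective x
  obtain ⟨d, rfl⟩ := hsurj x
  obtain ⟨k, a, hk⟩ := hins d
  obtain ⟨a, rfl⟩ := Ideal.Quotient.mk_surjective a
  let χ : IsLocalRing.ResidueField D →+* (CAlg2.normRed O ⧸ m') :=
    Ideal.Quotient.lift (IsLocalRing.maximalIdeal D) ((Ideal.Quotient.mk m').comp j'.toRingHom) fun t ht => by
      rw [RingHom.comp_apply, Ideal.Quotient.eq_zero_iff_mem, ← Ideal.mem_comap,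
        IsLocalRing.eq_maximalIdeal (Ideal.comap_isMaximal_of_surjective j'.toRingHom hsurj (K := m'))]
      exact ht
  letI : Field (CAlg2.normRed O ⧸ m') := Ideal.Quotient.field m'
  haveI : ExpChar (IsLocalRing.ResidueField D) (ringExpChar (IsLocalRing.ResidueField D)) := ringExpChar.of_eq rfl
  haveI := expChar_of_injective_ringHom χ.injective (ringExpChar (IsLocalRing.ResidueField D))
  refine ⟨k, a, ?_⟩
  rw [ringExpChar.eq (CAlg2.normRed O ⧸ m') (ringExpChar (IsLocalRing.ResidueField D))]
  have h1 : χ (IsLocalRing.residue D (d ^ ringExpChar (IsLocalRing.ResidueField D) ^ k)) =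
      χ (IsLocalRing.residue D (algebraMap (CAlg2.red O) D (Ideal.Quotient.mk _ a))) :=
    congrArg χ (Ideal.Quotient.eq.2 hk)
  rw [map_pow, map_pow] at h1
  refine Eq.trans ?_ h1.symm
  show Ideal.Quotient.mk m' (algebraMap (CAlg2.red O) (CAlg2.normRed O) (Ideal.Quotient.mk _ a)) =
    Ideal.Quotient.mk m' (j' (algebraMap (CAlg2.red O) D (Ideal.Quotient.mk _ a)))
  rw [j'.commutes]

theorem exists_coeff_lift {R S : Type u} [CommRing R] [CommRing S] (φ : R →+* S) (q : ℕ) (hq : ExpChar S q)
    (h : ∀ x, ∃ k r, x ^ q ^ k = φ r) {σ : Type u} (F : MvPolynomial σ S) :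
    ∃ k G, F ^ q ^ k = MvPolynomial.map φ G := by
  induction F using MvPolynomial.induction_on with
  | C x =>
    obtain ⟨k, r, hk⟩ := h x
    exact ⟨k, C r, by rw [← map_pow, hk, map_C]⟩
  | add F F' hF hF' =>
    obtain ⟨k, G, hG⟩ := hF
    obtain ⟨k', G', hG'⟩ := hF'
    refine ⟨k + k', G ^ q ^ k' + G' ^ q ^ k, ?_⟩
    rw [add_pow_expChar_pow, map_add, map_pow, map_pow, ← hG, ← hG', ← pow_mul, ← pow_mul, ← pow_add, ← pow_add,
      add_comm k' k]
  | mul_X F i hF =>
    obtain ⟨k, G, hG⟩ := hF
    exact ⟨k, G * X i ^ q ^ k, by rw [mul_pow, hG, map_mul, map_pow, map_X]⟩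

set_option maxHeartbeats 1000000 in
/-- Geometric unibranchness passes to localizations of polynomial rings over the closed point. -/
theorem GU.mvPolynomial {A : Type u} [CommRing A] [IsLocalRing A] (h : GU A) (σ : Type u)
    (P : Ideal (MvPolynomial σ A)) [P.IsPrime] (hP : P.comap C = IsLocalRing.maximalIdeal A) :
    GU (Localization.AtPrime P) := by
  obtain ⟨hdom, -, D, _, _, _, _, hn, hinj, hint, hins, hbir⟩ := h
  haveI := hdom
  haveI := hn
  haveI := hint
  letI : Algebra (MvPolynomial σ A) (MvPolynomial σ D) := MvPolynomial.algebraMvPolynomial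
  haveI := isIntegral_mvPolynomial A D σ
  haveI := isIntegrallyClosed_mvPolynomial D σ
  have hinjT : Function.Injective (algebraMap (MvPolynomial σ A) (MvPolynomial σ D)) :=
    MvPolynomial.map_injective _ hinj
  obtain ⟨P', hP'prime, hP'⟩ := Ideal.exists_ideal_over_prime_of_isIntegral_of_isDomain (S := MvPolynomial σ D) P
    (by rw [(RingHom.injective_iff_ker_eq_bot _).1 hinjT]; exact bot_le)
  haveI := hP'prime
  have hover : ∀ P₁ : Ideal (MvPolynomial σ D), P₁.IsPrime →
      P₁.comap (algebraMap (MvPolynomial σ A) (MvPolynomial σ D)) = P →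
      (IsLocalRing.maximalIdeal D).map C ≤ P₁ := fun P₁ hP₁ h₁ => by
    rw [Ideal.map_le_iff_le_comap]
    haveI : (P₁.comap C).IsPrime := Ideal.IsPrime.comap _
    refine (IsLocalRing.eq_maximalIdeal
      (Ideal.isMaximal_of_isIntegral_of_isMaximal_comap (R := A) (P₁.comap C) ?_)).ge
    have e : (P₁.comap C).comap (algebraMap A D) = IsLocalRing.maximalIdeal A := by
      rw [← hP, ← h₁, Ideal.comap_comap, Ideal.comap_comap]
      refine congrArg (fun φ => P₁.comap φ) (RingHom.ext fun a => ?_)
      rw [RingHom.comp_apply, RingHom.comp_apply, algebraMap_def, map_C]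
    rw [e]
    exact IsLocalRing.maximalIdeal.isMaximal A
  let q := ringExpChar (IsLocalRing.ResidueField D)
  haveI hq : ExpChar (IsLocalRing.ResidueField D) q := ringExpChar.of_eq rfl
  haveI : ExpChar (MvPolynomial σ (IsLocalRing.ResidueField D)) q :=
    expChar_of_injective_ringHom (C_injective σ _) q
  have hlift : ∀ F : MvPolynomial σ D, ∃ k G, F ^ q ^ k - algebraMap (MvPolynomial σ A) (MvPolynomial σ D) G ∈
      (IsLocalRing.maximalIdeal D).map (C : D →+* MvPolynomial σ D) := fun F => by
    obtain ⟨k, G, hk⟩ := exists_coeff_lift ((IsLocalRing.residue D).comp (algebraMap A D)) q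
      (ringExpChar.of_eq rfl) (fun x => by
        obtain ⟨x, rfl⟩ := IsLocalRing.residue_surjective x
        obtain ⟨k, a, ha⟩ := hins x
        refine ⟨k, a, ?_⟩
        rw [← map_pow, ← sub_eq_zero, RingHom.comp_apply, ← map_sub]
        exact Ideal.Quotient.eq_zero_iff_mem.2 ha) (MvPolynomial.map (IsLocalRing.residue D) F)
    refine ⟨k, G, ?_⟩
    rw [← IsLocalRing.ker_residue, ← MvPolynomial.ker_map, RingHom.mem_ker, map_sub, map_pow, hk,
      algebraMap_def, MvPolynomial.map_map, sub_self]
  have huniq : ∀ P₁ : Ideal (MvPolynomial σ D), P₁.IsPrime →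
      P₁.comap (algebraMap (MvPolynomial σ A) (MvPolynomial σ D)) = P → P₁ = P' := by
    have key : ∀ P₁ P₂ : Ideal (MvPolynomial σ D), P₁.IsPrime → P₂.IsPrime →
        P₁.comap (algebraMap (MvPolynomial σ A) (MvPolynomial σ D)) = P →
        P₂.comap (algebraMap (MvPolynomial σ A) (MvPolynomial σ D)) = P → P₁ ≤ P₂ := fun P₁ P₂ h₁ h₂ e₁ e₂ F hF => by
      obtain ⟨k, G, hk⟩ := hlift F
      have hG : G ∈ P := by
        rw [← e₁, Ideal.mem_comap]
        have := sub_mem (P₁.pow_mem_of_mem hF _ (pow_pos (expChar_pos (IsLocalRing.ResidueField D) q) k)) (hover P₁ h₁ e₁ hk)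
        rwa [sub_sub_cancel] at this
      have hFk : F ^ q ^ k ∈ P₂ := by
        have := add_mem (hover P₂ h₂ e₂ hk) (show algebraMap _ _ G ∈ P₂ by rw [← e₂] at hG; exact hG)
        rwa [sub_add_cancel] at this
      exact h₂.mem_of_pow_mem _ hFk
    intro P₁ h₁ e₁
    exact le_antisymm (key P₁ P' h₁ inferInstance e₁ hP') (key P' P₁ inferInstance h₁ hP' e₁)
  let AT := Localization.AtPrime P
  let DT := Localization.AtPrime P'
  let lm : AT →+* DT := Localization.localRingHom P P' (algebraMap (MvPolynomial σ A) (MvPolynomial σ D)) hP'.symm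
  letI : Algebra AT DT := lm.toAlgebra
  have hlm : ∀ G, lm (algebraMap _ AT G) = algebraMap _ DT (algebraMap (MvPolynomial σ A) (MvPolynomial σ D) G) :=
    fun G => Localization.localRingHom_to_map _ _ _ _ G
  have hDi : Function.Injective (algebraMap (MvPolynomial σ D) DT) :=
    IsLocalization.injective DT P'.primeCompl_le_nonZeroDivisors
  haveI : IsDomain AT := IsLocalization.isDomain_localization P.primeCompl_le_nonZeroDivisors
  haveI : IsDomain DT := IsLocalization.isDomain_localization P'.primeCompl_le_nonZeroDivisors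
  have hnorm : IsIntegrallyClosed DT := isIntegrallyClosed_of_isLocalization DT P'.primeCompl P'.primeCompl_le_nonZeroDivisors
  have hlmi : Function.Injective lm := by
    rw [injective_iff_map_eq_zero]
    intro z hz
    obtain ⟨G, s, rfl⟩ := IsLocalization.exists_mk'_eq P.primeCompl z
    rw [Localization.localRingHom_mk'] at hz
    obtain ⟨m, hm⟩ := (IsLocalization.mk'_eq_zero_iff _ _).1 hz
    have hG : algebraMap (MvPolynomial σ A) (MvPolynomial σ D) G = 0 :=
      (mul_eq_zero.1 hm).resolve_left fun h0 => m.2 (h0 ▸ P'.zero_mem)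
    rw [show G = 0 from hinjT (hG.trans (map_zero _).symm), IsLocalization.mk'_zero]
  -- everything outside `P'` divides an element coming from outside `P`
  have hden : ∀ t : MvPolynomial σ D, t ∉ P' → ∃ s : MvPolynomial σ A, s ∉ P ∧
      ∃ t', algebraMap (MvPolynomial σ A) (MvPolynomial σ D) s = t * t' := fun t ht => by
    by_contra hne
    push Not at hne
    let M := P.primeCompl.map (algebraMap (MvPolynomial σ A) (MvPolynomial σ D))
    obtain ⟨P₁, hP₁, hle, hdisj⟩ := Ideal.exists_le_prime_disjoint (Ideal.span {t}) M (by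
      rw [Set.disjoint_left]
      rintro _ ha ⟨s, hs, rfl⟩
      obtain ⟨t', ht'⟩ := Ideal.mem_span_singleton.1 ha
      exact hne s hs t' ht')
    have hsub : P₁.comap (algebraMap (MvPolynomial σ A) (MvPolynomial σ D)) ≤ P := fun s hs => by
      by_contra hsP
      exact Set.disjoint_left.1 hdisj hs ⟨s, hsP, rfl⟩
    haveI := hP₁
    obtain ⟨P₂, h₂, hP₂, e₂⟩ := Ideal.exists_ideal_over_prime_of_isIntegral_of_isPrime P P₁ hsub
    exact ht (huniq P₂ hP₂ e₂ ▸ h₂ (hle (Ideal.mem_span_singleton_self t)))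
  refine ⟨inferInstance, inferInstance, DT, inferInstance, inferInstance, inferInstance, inferInstance, hnorm, hlmi,
    ⟨fun z => ?_⟩, fun z => ?_, fun z => ?_⟩
  · obtain ⟨F, t, rfl⟩ := IsLocalization.exists_mk'_eq P'.primeCompl z
    obtain ⟨s, hs, t', ht'⟩ := hden t.1 t.2
    obtain ⟨Q, hQ, he⟩ := Algebra.IsIntegral.isIntegral (R := MvPolynomial σ A) (F * t')
    have hi : IsIntegral AT (algebraMap _ DT (F * t')) := by
      refine ⟨Q.map (algebraMap _ AT), hQ.map _, ?_⟩
      rw [Polynomial.eval₂_map, show (algebraMap AT DT).comp (algebraMap _ AT) =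
          (algebraMap _ DT).comp (algebraMap (MvPolynomial σ A) (MvPolynomial σ D)) from RingHom.ext hlm,
        ← Polynomial.hom_eval₂, he, map_zero]
    have hu : IsUnit (algebraMap _ AT s) := IsLocalization.map_units AT (⟨s, hs⟩ : P.primeCompl)
    have hz : IsLocalization.mk' DT F t = algebraMap AT DT ↑hu.unit⁻¹ * algebraMap _ DT (F * t') := by
      refine IsLocalization.mk'_eq_iff_eq_mul.2 ?_
      rw [mul_assoc, ← map_mul, mul_assoc, mul_comm t' t.1, ← ht', map_mul,
        mul_left_comm, ← hlm]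
      rw [show lm (algebraMap _ AT s) = algebraMap AT DT (algebraMap _ AT s) from rfl, ← map_mul,
        IsUnit.val_inv_mul, map_one, mul_one]
    rw [hz]
    exact isIntegral_algebraMap.mul hi
  · obtain ⟨F, t, rfl⟩ := IsLocalization.exists_mk'_eq P'.primeCompl z
    obtain ⟨k, G, hk⟩ := hlift F
    obtain ⟨k', G', hk'⟩ := hlift t.1
    have hG' : G' ∉ P := fun hG' => t.2 (Ideal.IsPrime.mem_of_pow_mem inferInstance (q ^ k') (by
      have := add_mem (hover P' inferInstance hP' hk') (show algebraMap _ _ G' ∈ P' by rw [← hP'] at hG'; exact hG')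
      rwa [sub_add_cancel] at this))
    have hmem : ∀ {N : MvPolynomial σ D}, N ∈ (IsLocalRing.maximalIdeal D).map C →
        IsLocalRing.residue DT (algebraMap _ DT N) = 0 := fun hN => by
      refine Ideal.Quotient.eq_zero_iff_mem.2 ?_
      rw [IsLocalization.AtPrime.to_map_mem_maximal_iff DT P']
      exact hover P' inferInstance hP' hN
    let χ₂ : IsLocalRing.ResidueField D →+* IsLocalRing.ResidueField DT :=
      Ideal.Quotient.lift (IsLocalRing.maximalIdeal D)
        (((IsLocalRing.residue DT).comp (algebraMap _ DT)).comp C) fun d hd => hmem (Ideal.mem_map_of_mem _ hd)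
    haveI hexp : ExpChar (IsLocalRing.ResidueField DT) q := expChar_of_injective_ringHom χ₂.injective q
    rw [ringExpChar.eq (IsLocalRing.ResidueField DT) q]
    refine ⟨k + k', IsLocalization.mk' AT (G ^ q ^ k') ⟨G' ^ q ^ k, (P.primeCompl).pow_mem hG' _⟩, ?_⟩
    rw [← Ideal.Quotient.eq_zero_iff_mem, map_sub, sub_eq_zero]
    show IsLocalRing.residue DT _ = IsLocalRing.residue DT _
    have e1 : IsLocalRing.residue DT (algebraMap _ DT F) ^ q ^ k =
        IsLocalRing.residue DT (lm (algebraMap _ AT G)) := by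
      rw [hlm, ← sub_eq_zero, ← map_pow, ← map_pow, ← map_sub, ← map_sub]; exact hmem hk
    have e2 : IsLocalRing.residue DT (algebraMap _ DT t.1) ^ q ^ k' =
        IsLocalRing.residue DT (lm (algebraMap _ AT G')) := by
      rw [hlm, ← sub_eq_zero, ← map_pow, ← map_pow, ← map_sub, ← map_sub]; exact hmem hk'
    have htu : IsLocalRing.residue DT (algebraMap _ DT t.1) ≠ 0 :=
      ((IsLocalization.map_units DT t).map _).ne_zero
    refine mul_right_cancel₀ (pow_ne_zero (q ^ (k + k')) htu) ?_
    rw [map_pow, ← mul_pow, ← map_mul, IsLocalization.mk'_spec]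
    rw [show IsLocalRing.residue DT (algebraMap _ DT t.1) ^ q ^ (k + k') =
        IsLocalRing.residue DT (lm (algebraMap _ AT (G' ^ q ^ k))) by
      rw [map_pow (algebraMap (MvPolynomial σ A) AT), map_pow lm, map_pow (IsLocalRing.residue DT), ← e2,
        ← pow_mul, ← pow_add, add_comm k'],
      show algebraMap AT DT _ = lm _ from rfl, ← map_mul (IsLocalRing.residue DT), ← map_mul lm,
      IsLocalization.mk'_spec, map_pow (algebraMap (MvPolynomial σ A) AT), map_pow lm,
      map_pow (IsLocalRing.residue DT), ← e1, ← pow_mul, ← pow_add]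
  · have hb : ∀ F : MvPolynomial σ D, ∃ (a : MvPolynomial σ A) (s : A), s ≠ 0 ∧
        algebraMap (MvPolynomial σ A) (MvPolynomial σ D) (C s) * F =
          algebraMap (MvPolynomial σ A) (MvPolynomial σ D) a := fun F => by
      induction F using MvPolynomial.induction_on with
      | C d =>
        obtain ⟨a, s, hs, h⟩ := hbir d
        exact ⟨C a, s, hs, by rw [algebraMap_def, map_C, map_C, ← map_mul, h]⟩
      | add F F' hF hF' =>
        obtain ⟨a, s, hs, h⟩ := hF
        obtain ⟨a', s', hs', h'⟩ := hF'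
        exact ⟨a * C s' + a' * C s, s * s', mul_ne_zero hs hs', by
          simp only [map_add, map_mul, ← h, ← h']; ring⟩
      | mul_X F i hF =>
        obtain ⟨a, s, hs, h⟩ := hF
        exact ⟨a * X i, s, hs, by
          rw [← mul_assoc, h, map_mul, algebraMap_def, map_X]⟩
    obtain ⟨F, t, rfl⟩ := IsLocalization.exists_mk'_eq P'.primeCompl z
    obtain ⟨a, s, hs, h⟩ := hb F
    obtain ⟨s₂, hs₂, t', ht'⟩ := hden t.1 t.2
    obtain ⟨a', s', hs', h'⟩ := hb t'
    refine ⟨algebraMap _ AT (a * a'), algebraMap _ AT (C s * C s' * s₂), ?_, ?_⟩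
    · refine (map_ne_zero_iff _ (IsLocalization.injective AT P.primeCompl_le_nonZeroDivisors)).2 ?_
      exact mul_ne_zero (mul_ne_zero (C_ne_zero.2 hs) (C_ne_zero.2 hs')) (fun h0 => hs₂ (h0 ▸ P.zero_mem))
    · show lm _ * _ = lm _
      rw [hlm, hlm, map_mul (algebraMap (MvPolynomial σ A) (MvPolynomial σ D)), map_mul (algebraMap (MvPolynomial σ A) (MvPolynomial σ D)),
        ht', map_mul (algebraMap (MvPolynomial σ A) (MvPolynomial σ D)) a a', ← h, ← h']
      have hm := IsLocalization.mk'_spec DT F t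
      simp only [map_mul]
      linear_combination (algebraMap _ DT (algebraMap (MvPolynomial σ A) (MvPolynomial σ D) (C s)) *
        algebraMap _ DT (algebraMap (MvPolynomial σ A) (MvPolynomial σ D) (C s')) * algebraMap _ DT t') * hm

end Groth.Agent.UnivOpen
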