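import Groth.Agent.UnivOpen.Unibranch
import Groth.Agent.UnivOpen.AffineSpaceUnibranch
import Groth.Agent.DimFormula.QuasiSection
import Groth.Agent.DimFormula.Criteria
import Groth.Agent.QHomeo.OpenAt
import Groth.Agent.S3386
import Mathlib.AlgebraicGeometry.ZariskisMainTheorem

/-!
# Chevalley's criterion for universal openness (EGA IV 14.4.4)
-/

set_option autoImplicit false
set_option linter.style.haveILetI false

open AlgebraicGeometry CategoryTheory Limits Topology

namespace Groth.Agent.UnivOpen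

universe u

variable {X Y : Scheme.{u}}

theorem universallyOpen_affineSpace (σ : Type u) : UniversallyOpen (𝔸(σ; Y) ↘ Y) := by
  refine ⟨fun P T p g q h => ?_⟩
  rw [← ((AffineSpace.isPullback_map (n := σ) g).flip.isoIsPullback _ _ h).inv_hom_id_assoc q,
    MorphismProperty.cancel_left_of_respectsIso (P := topologically @IsOpenMap)]
  rw [IsPullback.isoIsPullback_hom_fst]
  exact AffineSpace.isOpenMap_over T

theorem eq_fromSpecStalk_nilradical {y a : Y} (h : (nilradical (Y.presheaf.stalk y)).IsPrime) (ha : a ⤳ y)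
    (hmax : ∀ b, b ⤳ a → b = a) :
    a = Y.fromSpecStalk y (⟨nilradical _, h⟩ : PrimeSpectrum (Y.presheaf.stalk y)) := by
  obtain ⟨q, rfl⟩ : a ∈ Set.range (Y.fromSpecStalk y) := by rw [Scheme.range_fromSpecStalk]; exact ha
  refine (hmax _ (Specializes.map ?_ (Y.fromSpecStalk y).continuous)).symm
  exact (PrimeSpectrum.le_iff_specializes (⟨nilradical _, h⟩ : PrimeSpectrum (Y.presheaf.stalk y)) q).1
    (nilradical_le_prime _ (H := (q : PrimeSpectrum (Y.presheaf.stalk y)).isPrime))

theorem nilradical_isPrime {O : Type u} [CommRing O] [IsLocalRing O] (h : CAlg2.IsUnibranch O) :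
    (nilradical O).IsPrime :=
  (Ideal.Quotient.isDomain_iff_prime _).1 h.1

/-- Over a unibranch point there is only one maximal generization. -/
theorem maximal_unique {y a b : Y} (h : CAlg2.IsUnibranch (Y.presheaf.stalk y)) (ha : a ⤳ y)
    (ham : ∀ c, c ⤳ a → c = a) (hb : b ⤳ y) (hbm : ∀ c, c ⤳ b → c = b) : a = b :=
  (eq_fromSpecStalk_nilradical (nilradical_isPrime h) ha ham).trans
    (eq_fromSpecStalk_nilradical (nilradical_isPrime h) hb hbm).symm

theorem ker_stalkMap_le_nilradical [IrreducibleSpace X] [IsReduced X] (f : X ⟶ Y) (x : X)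
    (hy : CAlg2.IsUnibranch (Y.presheaf.stalk (f x)))
    (hmax : ∀ b, b ⤳ f (genericPoint X) → b = f (genericPoint X)) :
    RingHom.ker (f.stalkMap x).hom ≤ nilradical (Y.presheaf.stalk (f x)) := by
  obtain ⟨hS, hS'⟩ := fromSpecStalk_nilradical x
  have h1 := map_fromSpecStalk f (x := x) ⟨nilradical _, hS⟩
  rw [hS' hS, eq_fromSpecStalk_nilradical (nilradical_isPrime hy)
    (((genericPoint_spec X).specializes (Set.mem_univ x)).map f.continuous) hmax] at h1
  have h2 := congrArg PrimeSpectrum.asIdeal ((Y.fromSpecStalk (f x)).isEmbedding.injective h1)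
  intro a ha
  rw [show nilradical (Y.presheaf.stalk (f x)) = _ from h2, PrimeSpectrum.comap_asIdeal, Ideal.mem_comap]
  rw [RingHom.mem_ker.1 ha]
  exact zero_mem _

/-- An integral scheme equidimensional over a geometrically unibranch point is universally open there. -/
theorem isUnivOpenAt_of_integral [IsIntegral X] [IsLocallyNoetherian Y] (f : X ⟶ Y) [LocallyOfFiniteType f]
    (x : X) (hf : EGA43.IsEquidimAt f x) (hy : CAlg2.IsGeomUnibranch (Y.presheaf.stalk (f x))) :
    EGA43.IsUnivOpenAt f x := by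
  haveI := LocallyOfFiniteType.isLocallyNoetherian f
  obtain ⟨e, U, g, hxU, hg, hqf, hcomp⟩ := (S3386.result f x).1 hf
  haveI := hqf
  let π := (𝔸(ULift.{u} (Fin e); Y) ↘ Y)
  haveI : LocallyOfFiniteType g := by
    haveI : LocallyOfFiniteType (g ≫ π) := by rw [hg]; infer_instance
    exact locallyOfFiniteType_of_comp g π
  haveI : IsLocallyNoetherian 𝔸(ULift.{u} (Fin e); Y) := LocallyOfFiniteType.isLocallyNoetherian π
  haveI : Nonempty (U : Scheme.{u}) := ⟨⟨x, hxU⟩⟩
  haveI : IsIntegral (U : Scheme.{u}) := isIntegral_of_isOpenImmersion U.ι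
  let x' : (U : Scheme.{u}) := ⟨x, hxU⟩
  have hπ : π (g x') = f x := by
    show (g ≫ π) x' = _
    rw [hg]; rfl
  have hgy : CAlg2.IsGeomUnibranch ((𝔸(ULift.{u} (Fin e); Y)).presheaf.stalk (g x')) :=
    isGeomUnibranch_affineSpace _ _ (isGeomUnibranch_of_ringEquiv
      (Y.presheaf.stalkCongr (.of_eq hπ.symm)).commRingCatIsoToRingEquiv hy)
  have hmax : ∀ b, b ⤳ g (genericPoint ↥(U : Scheme.{u})) → b = g (genericPoint ↥(U : Scheme.{u})) := by
    have h1 : closure (g '' closure {genericPoint ↥(U : Scheme.{u})}) ∈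
        irreducibleComponents ↥𝔸(ULift.{u} (Fin e); Y) := by
      rw [(genericPoint_spec ↥(U : Scheme.{u})).def]
      exact hcomp _ ((irreducibleComponents_eq_singleton (X := ↥(U : Scheme.{u}))).symm ▸ Set.mem_singleton _)
    rw [closure_image_closure g.continuous] at h1
    erw [Set.image_singleton] at h1
    exact fun b hb => FDescent.maximal_of_closure_mem_irreducibleComponents h1 hb
  haveI : IsDomain ((U : Scheme.{u}).presheaf.stalk x') := inferInstance
  have h1 := isUnivOpenAt_of_quasiFinite g x' (g.quasiFiniteAt x') hgy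
    (ker_stalkMap_le_nilradical g x' hgy.1 hmax)
  haveI := universallyOpen_affineSpace (Y := Y) (ULift.{u} (Fin e))
  have h2 := QHomeo.univOpenAt_comp h1 ((universallyOpen_iff_forall π).1 inferInstance (g x'))
  rw [hg] at h2
  exact QHomeo.univOpenAt_of_comp h2

/-- EGA IV 14.4.4: the criterion at a maximal point of a fibre. -/
theorem isUnivOpenAt_of_witness [IsLocallyNoetherian Y] (f : X ⟶ Y) [LocallyOfFiniteType f] {z : X}
    (hy : CAlg2.IsGeomUnibranch (Y.presheaf.stalk (f z))) (hz : FibDim.FibMax f z) {η : X} (hη : η ⤳ z)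
    (hmax : ∀ t, t ⤳ η → t = η) (hfη : ∀ b, b ⤳ f η → b = f η) (hr : FibDim.rd f η = FibDim.rd f z) :
    EGA43.IsUnivOpenAt f z := by
  haveI := LocallyOfFiniteType.isLocallyNoetherian f
  let S : TopologicalSpace.Closeds X := ⟨closure {η}, isClosed_closure⟩
  let j := (Scheme.IdealSheafData.vanishingIdeal S).subschemeι
  have hrange : Set.range j = closure {η} := DimFormula.range_vanishingIdeal S
  haveI : IsReduced (Scheme.IdealSheafData.vanishingIdeal S).subscheme := H23.RedSub.isReduced_vanishingIdeal S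
  haveI : IrreducibleSpace ↥(Scheme.IdealSheafData.vanishingIdeal S).subscheme := by
    haveI : IrreducibleSpace ↥(Set.range j) := by
      rw [hrange]; exact Subtype.irreducibleSpace isIrreducible_singleton.closure
    exact j.isClosedEmbedding.isEmbedding.toHomeomorph.symm.surjective.irreducibleSpace
      j.isClosedEmbedding.isEmbedding.toHomeomorph.symm.continuous
  haveI : IsIntegral (Scheme.IdealSheafData.vanishingIdeal S).subscheme :=
    isIntegral_of_irreducibleSpace_of_isReduced _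
  obtain ⟨η', hη'⟩ : η ∈ Set.range j := by rw [hrange]; exact subset_closure rfl
  obtain ⟨z', rfl⟩ : z ∈ Set.range j := by rw [hrange]; exact specializes_iff_mem_closure.1 hη
  refine QHomeo.univOpenAt_of_comp (isUnivOpenAt_of_integral (j ≫ f) z' ?_ hy)
  refine DimFormula.isEquidimAt_of _ fun a _ ham => ?_
  obtain rfl : a = η' := (ham η' (j.isClosedEmbedding.isInducing.specializes_iff.1
    (specializes_iff_mem_closure.2 (by rw [hη', ← hrange]; exact ⟨a, rfl⟩)))).symm
  have hm : FibDim.FibMax (j ≫ f) z' := fun w hw hfw =>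
    j.isClosedEmbedding.injective (hz _ (hw.map j.continuous) hfw)
  refine ⟨by rw [Scheme.Hom.comp_apply, hη']; exact hfη, ?_⟩
  rw [DimFormula.rd_closedSub, DimFormula.rd_closedSub, (DimFormula.fb_eq_zero_iff _ _).2 hm, hη', hr, add_zero]

theorem exists_witness_of_isOpenAt [IsLocallyNoetherian Y] (f : X ⟶ Y) [LocallyOfFiniteType f] {z : X}
    (hz : FibDim.FibMax f z) (h : EGA43.IsOpenAt f.base z) :
    ∀ a, a ⤳ f z → (∀ b, b ⤳ a → b = a) →
      ∃ η, η ⤳ z ∧ (∀ t, t ⤳ η → t = η) ∧ f η = a ∧ FibDim.rd f η = FibDim.rd f z := by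
  intro a ha ham
  obtain ⟨ζ, hζ, hfζ, hr⟩ := FibDim.exists_generization_rd_ge f h ha
  obtain ⟨η, hη, hmax⟩ := FibDim.exists_maximal_generization ζ
  have hfη : f η = a := ham _ ((hη.map f.continuous).trans (specializes_of_eq hfζ))
  refine ⟨η, hη.trans hζ, hmax, hfη, le_antisymm ?_ ?_⟩
  · have := DimFormula.rd_le_of_specializes' f (hη.trans hζ)
    rwa [(DimFormula.fb_eq_zero_iff f z).2 hz, add_zero] at this
  · exact hr.trans (FibDim.rd_le_of_specializes f hη (hfη.trans hfζ.symm))

/-- EGA IV 14.4.4, at a maximal point of a fibre. -/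
theorem isUnivOpenAt_of_isOpenAt [IsLocallyNoetherian Y] (f : X ⟶ Y) [LocallyOfFiniteType f] {z : X}
    (hy : CAlg2.IsGeomUnibranch (Y.presheaf.stalk (f z))) (hz : FibDim.FibMax f z)
    (h : EGA43.IsOpenAt f.base z) : EGA43.IsUnivOpenAt f z := by
  obtain ⟨a, ha, ham⟩ := FibDim.exists_maximal_generization (f z)
  obtain ⟨η, hη, hmax, hfη, hr⟩ := exists_witness_of_isOpenAt f hz h a ha ham
  exact isUnivOpenAt_of_witness f hy hz hη hmax (hfη ▸ ham) hr

theorem isOpenAt_of_isUnivOpenAt {f : X ⟶ Y} {x : X} (h : EGA43.IsUnivOpenAt f x) : EGA43.IsOpenAt f.base x :=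
  QHomeo.univOpenAt_openAt h (p := 𝟙 X) (g := 𝟙 Y) IsPullback.of_id_fst x rfl

/-- Universal openness specializes inside a fibre. -/
theorem isUnivOpenAt_of_specializes {f : X ⟶ Y} {z x : X} (h : EGA43.IsUnivOpenAt f z) (hzx : z ⤳ x)
    (hf : f z = f x) : EGA43.IsUnivOpenAt f x := by
  intro Y' g x' hx' U hU
  obtain ⟨U', hU'U, hU'o, hxU'⟩ := mem_nhds_iff.1 hU
  have hsub : ({z} : Set X) ⊆ {z} ∩ f ⁻¹' {f (pullback.fst f g x')} := by
    rintro _ rfl
    exact ⟨rfl, by simp [hx', hf]⟩
  have h1 := FibDim.mem_closure_preimage_fiber (IsPullback.of_hasPullback f g) (B := {z}) (x' := x')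
    (closure_mono hsub (by rw [hx']; exact specializes_iff_mem_closure.1 hzx))
  obtain ⟨w, hwU, hwp, hwq⟩ := mem_closure_iff.1 h1 U' hU'o hxU'
  have := h Y' g w hwp U' (hU'o.mem_nhds hwU)
  rw [show (pullback.snd f g).base w = (pullback.snd f g).base x' from hwq] at this
  exact Filter.mem_of_superset this (Set.image_mono hU'U)

theorem isUnivOpenAt_fibre [IsLocallyNoetherian Y] (f : X ⟶ Y) [LocallyOfFiniteType f] {y : Y}
    (h : ∀ z, f z = y → FibDim.FibMax f z → EGA43.IsUnivOpenAt f z) (x : X) (hx : f x = y) :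
    EGA43.IsUnivOpenAt f x := by
  obtain ⟨z, hz, hfz, hzm, -⟩ := FibDim.exists_fibMax_generization f x
  exact isUnivOpenAt_of_specializes (h z (hfz.trans hx) hzm) hz hfz

/-- Openness at the closed points of a fibre gives openness on the fibre. -/
theorem isOpenAt_fibre_of_closed (f : X ⟶ Y) [LocallyOfFiniteType f] {y : Y}
    (h : ∀ x, f x = y → (∀ x', f x' = y → x ⤳ x' → x' = x) → EGA43.IsOpenAt f.base x) (x : X) (hx : f x = y) :
    EGA43.IsOpenAt f.base x := by
  haveI : JacobsonSpace ↥(f.fiber y) :=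
    LocallyOfFiniteType.jacobsonSpace (f.fiberToSpecResidueField y)
  let e := f.fiberHomeo y
  let C : Set ↥(f.fiber y) := (fun w => (⟨f.fiberι y w, FibDim.fiber_apply_fiberι f w⟩ : ↥(f ⁻¹' {y}))) ⁻¹'
    {x : ↥(f ⁻¹' {y}) | EGA43.IsOpenAt f.base x.1}
  have hC : IsClosed C := (QHomeo.isClosed_setOf_openAt f.base y).preimage
    (Continuous.subtype_mk (f.fiberι y).continuous _)
  obtain ⟨a, ha⟩ : x ∈ Set.range (f.fiberι y) := by rw [Scheme.Hom.range_fiberι]; exact hx
  suffices a ∈ C by
    have h1 : EGA43.IsOpenAt f.base (f.fiberι y a) := this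
    rwa [ha] at h1
  by_contra hne
  obtain ⟨c, hcC, hcc⟩ := nonempty_inter_closedPoints (Z := Cᶜ) ⟨a, hne⟩ hC.isOpen_compl.isLocallyClosed
  refine hcC (h (f.fiberι y c) (FibDim.fiber_apply_fiberι f c) fun x' hx' hcx => ?_)
  obtain ⟨b, rfl⟩ : x' ∈ Set.range (f.fiberι y) := by rw [Scheme.Hom.range_fiberι]; exact hx'
  have hb : b ∈ ({c} : Set _) := ((FibDim.fiberι_specializes_iff f c b).1 hcx).mem_closed hcc rfl
  rw [Set.mem_singleton_iff.1 hb]

end Groth.Agent.UnivOpen
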