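import Groth.Agent.UnivOpen.QuasiFiniteUnibranch

/-!
# Going down over unibranch local domains
-/

set_option autoImplicit false
set_option linter.style.haveILetI false

namespace Groth.Agent.UnivOpen

universe u

/-- Going down to a local normal integral extension. -/
theorem exists_prime_le_of_local_normalization {A D B : Type u} [CommRing A] [IsDomain A] [IsLocalRing A]
    [CommRing D] [IsDomain D] [IsLocalRing D] [IsIntegrallyClosed D] [Algebra A D] [Algebra.IsIntegral A D]
    (hAD : Function.Injective (algebraMap A D)) [CommRing B] [IsDomain B] [Algebra A B]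
    (hAB : Function.Injective (algebraMap A B)) [Algebra.IsIntegral A B] (n : Ideal B) [n.IsPrime]
    (hn : n.comap (algebraMap A B) = IsLocalRing.maximalIdeal A) (p : Ideal A) [p.IsPrime] :
    ∃ q : Ideal B, q.IsPrime ∧ q ≤ n ∧ q.comap (algebraMap A B) = p := by
  let L := AlgebraicClosure (FractionRing B)
  have hAL : Function.Injective (algebraMap A L) := by
    rw [IsScalarTower.algebraMap_eq A (FractionRing B) L, IsScalarTower.algebraMap_eq A B (FractionRing B)]
    exact (algebraMap (FractionRing B) L).injective.comp ((IsFractionRing.injective B (FractionRing B)).comp hAB)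
  obtain ⟨δ, hδ, hδker⟩ := exists_lift_of_integral (algebraMap A L) (⊥ : Ideal D) (by
    rw [← RingHom.ker_eq_comap_bot, (RingHom.injective_iff_ker_eq_bot _).1 hAD,
      (RingHom.injective_iff_ker_eq_bot _).1 hAL])
  let δA : D →ₐ[A] L := { δ with commutes' := hδ }
  let γ : B →ₐ[A] L := (IsScalarTower.toAlgHom A (FractionRing B) L).comp (IsScalarTower.toAlgHom A B (FractionRing B))
  let E := integralClosure A L
  let δ' : D →ₐ[A] E := δA.codRestrict E fun d => (Algebra.IsIntegral.isIntegral (R := A) d).map δA
  let γ' : B →ₐ[A] E := γ.codRestrict E fun b => (Algebra.IsIntegral.isIntegral (R := A) b).map γ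
  have hδ' : Function.Injective δ' := fun a b hab =>
    (RingHom.injective_iff_ker_eq_bot δ).2 hδker (congrArg Subtype.val hab)
  have hγ' : Function.Injective γ' := fun a b hab =>
    ((algebraMap (FractionRing B) L).injective.comp (IsFractionRing.injective B (FractionRing B)))
      (congrArg Subtype.val hab)
  letI : Algebra B E := γ'.toRingHom.toAlgebra
  haveI : IsScalarTower A B E := IsScalarTower.of_algebraMap_eq fun a => (γ'.commutes a).symm
  letI : Algebra D E := δ'.toRingHom.toAlgebra
  haveI : IsScalarTower A D E := IsScalarTower.of_algebraMap_eq fun a => (δ'.commutes a).symm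
  haveI : Algebra.IsIntegral A E := ⟨fun e => by
    obtain ⟨P, hP, he⟩ := e.2
    refine ⟨P, hP, Subtype.val_injective ?_⟩
    show E.val (Polynomial.eval₂ (algebraMap A E) e P) = 0
    rw [← Polynomial.aeval_def, ← Polynomial.aeval_algHom_apply]
    exact he⟩
  haveI : Algebra.IsIntegral B E := Algebra.IsIntegral.tower_top (R := A)
  haveI : Algebra.IsIntegral D E := Algebra.IsIntegral.tower_top (R := A)
  haveI : FaithfulSMul D E := (faithfulSMul_iff_algebraMap_injective _ _).2 hδ'
  obtain ⟨n', hn'p, hn'⟩ := Ideal.exists_ideal_over_prime_of_isIntegral_of_isDomain (S := E) n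
    (by rw [show RingHom.ker (algebraMap B E) = ⊥ from (RingHom.injective_iff_ker_eq_bot _).1 hγ']; exact bot_le)
  have hn'D : n'.comap (algebraMap D E) = IsLocalRing.maximalIdeal D := by
    refine IsLocalRing.eq_maximalIdeal (Ideal.isMaximal_of_isIntegral_of_isMaximal_comap (R := A) _ ?_)
    rw [Ideal.comap_comap, ← IsScalarTower.algebraMap_eq, IsScalarTower.algebraMap_eq A B E, ← Ideal.comap_comap, hn',
      hn]
    exact IsLocalRing.maximalIdeal.isMaximal A
  obtain ⟨qD, hqDp, hqD⟩ := Ideal.exists_ideal_over_prime_of_isIntegral_of_isDomain (S := D) p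
    (by rw [(RingHom.injective_iff_ker_eq_bot _).1 hAD]; exact bot_le)
  obtain ⟨R, hRle, hRp, hRo⟩ := Ideal.exists_ideal_le_liesOver_of_le (R := D) (p := qD)
    (q := n'.under D) n' (by
      rw [show n'.under D = IsLocalRing.maximalIdeal D from hn'D]
      exact IsLocalRing.le_maximalIdeal_of_isPrime qD)
  refine ⟨R.comap (algebraMap B E), Ideal.IsPrime.comap _, hn' ▸ Ideal.comap_mono hRle, ?_⟩
  rw [Ideal.comap_comap, ← IsScalarTower.algebraMap_eq, IsScalarTower.algebraMap_eq A D E, ← Ideal.comap_comap,
    show R.comap (algebraMap D E) = qD from hRo.over.symm, hqD]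

/-- EGA IV 14.4.1.2: going down over a unibranch local domain. -/
theorem exists_prime_le_of_unibranch {A B : Type u} [CommRing A] [IsDomain A]
    [IsLocalRing A] (hA : CAlg2.IsUnibranch A) [CommRing B] [IsDomain B] [Algebra A B]
    (hinj : Function.Injective (algebraMap A B)) [Algebra.IsIntegral A B] (n : Ideal B) [n.IsPrime]
    (hn : n.comap (algebraMap A B) = IsLocalRing.maximalIdeal A) (p : Ideal A) [p.IsPrime] :
    ∃ q : Ideal B, q.IsPrime ∧ q ≤ n ∧ q.comap (algebraMap A B) = p := by
  obtain ⟨hdom, hloc⟩ := hA
  haveI := hdom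
  haveI := hloc
  haveI : IsFractionRing (CAlg2.normRed A) (FractionRing (CAlg2.red A)) :=
    integralClosure.isFractionRing_of_finite_extension (FractionRing (CAlg2.red A)) _
  haveI : IsIntegrallyClosed (CAlg2.normRed A) :=
    integralClosure.isIntegrallyClosedOfFiniteExtension (FractionRing (CAlg2.red A))
  letI : Algebra A (CAlg2.normRed A) :=
    ((algebraMap (CAlg2.red A) (CAlg2.normRed A)).comp (Ideal.Quotient.mk (nilradical A))).toAlgebra
  haveI : Algebra.IsIntegral A (CAlg2.normRed A) :=
    ⟨(RingHom.isIntegral_of_surjective _ Ideal.Quotient.mk_surjective).trans _ _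
      (Algebra.IsIntegral.isIntegral (R := CAlg2.red A))⟩
  refine exists_prime_le_of_local_normalization (D := CAlg2.normRed A) (fun a b hab => ?_) hinj n hn p
  have h1 : (Ideal.Quotient.mk (nilradical A)) a = Ideal.Quotient.mk (nilradical A) b :=
    IsFractionRing.injective (CAlg2.red A) (FractionRing (CAlg2.red A)) (congrArg Subtype.val hab)
  rw [Ideal.Quotient.eq, nilradical_eq_zero A] at h1
  exact sub_eq_zero.1 h1

end Groth.Agent.UnivOpen
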