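import Groth.Agent.UnivOpen.Chevalley
import Groth.Prelude.Def_FDesc

/-!
# Connected components of fibres through a section (EGA IV 15.6)
-/

set_option autoImplicit false
set_option linter.style.haveILetI false

open AlgebraicGeometry CategoryTheory Limits Topology

namespace Groth.Agent.UnivOpen

universe u

variable {X Y : Scheme.{u}} (f : X ⟶ Y) [LocallyOfFiniteType f]

/-- The generic point of an irreducible connected component of a fibre. -/
theorem exists_component_generic {y : Y} {x : X} (hx : f x = y)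
    (hirr : IsIrreducible (connectedComponentIn (f.base ⁻¹' {y}) x)) :
    ∃ ξ, f ξ = y ∧ ξ ⤳ x ∧ FibDim.FibMax f ξ ∧
      connectedComponentIn (f.base ⁻¹' {y}) x = closure {ξ} ∩ f.base ⁻¹' {y} ∧
      (∀ v, f v = y → v ⤳ x → ξ ⤳ v) ∧
      FlatMor.fibreDimAt f x = ((FibDim.rd f ξ : ℕ∞) : WithBot ℕ∞) := by
  set C := connectedComponentIn (f.base ⁻¹' {y}) x with hC
  have hxC : x ∈ C := mem_connectedComponentIn hx
  have hCy : C ⊆ f.base ⁻¹' {y} := connectedComponentIn_subset _ _
  have hmax : ∀ v, f v = y → ∀ w ∈ C, v ⤳ w → v ∈ C := fun v hv w hw hvw => by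
    have hpre : _root_.IsPreconnected ({v, w} : Set X) :=
      isPreconnected_singleton.subset_closure (s := {v}) (by simp)
        (Set.insert_subset_iff.2 ⟨subset_closure rfl, Set.singleton_subset_iff.2 (specializes_iff_mem_closure.1 hvw)⟩)
    have hsub : ({v, w} : Set X) ⊆ f.base ⁻¹' {y} := Set.insert_subset_iff.2 ⟨hv, Set.singleton_subset_iff.2 (hCy hw)⟩
    rw [hC, connectedComponentIn_eq hw]
    exact hpre.subset_connectedComponentIn (by simp) hsub (by simp)
  let ξ := hirr.genericPoint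
  have hξ : IsGenericPoint ξ (closure C) := hirr.isGenericPoint_genericPoint_closure
  have hξC : ∀ w ∈ C, ξ ⤳ w := fun w hw => hξ.specializes (subset_closure hw)
  obtain ⟨z, hz, hfz, hzm, hzd⟩ := FibDim.exists_fibMax_generization f x
  have hzC : z ∈ C := hmax z (hfz.trans hx) x hxC hz
  have hfξ : f ξ = y := by
    have h1 : f ξ ⤳ y := (hξC x hxC).map f.continuous |>.trans (specializes_of_eq hx)
    have h2 : y ⤳ f ξ := by
      rw [specializes_iff_mem_closure]
      exact closure_mono (Set.image_subset_iff.2 hCy) (image_closure_subset_closure_image f.continuous ⟨ξ, hξ.mem, rfl⟩)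
    exact (h1.antisymm h2).eq
  have hξmem : ξ ∈ C := hmax ξ hfξ x hxC (hξC x hxC)
  obtain rfl : z = ξ := (hzm ξ (hξC z hzC) (hfξ.trans (hfz.trans hx).symm)).symm
  refine ⟨ξ, hfξ, hξC x hxC, hzm, ?_, fun v hv hvx => hξC v (hmax v hv x hxC hvx), hzd⟩
  refine Set.Subset.antisymm (fun w hw => ⟨specializes_iff_mem_closure.1 (hξC w hw), hCy hw⟩) fun w hw => ?_
  have hpre : _root_.IsPreconnected (closure {ξ} ∩ f.base ⁻¹' {y}) :=
    isPreconnected_singleton.subset_closure (Set.singleton_subset_iff.2 ⟨subset_closure rfl, hfξ⟩) Set.inter_subset_left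
  rw [hC, connectedComponentIn_eq hξmem]
  exact hpre.subset_connectedComponentIn ⟨subset_closure rfl, hfξ⟩ Set.inter_subset_right hw

theorem dim_component {y : Y} {x : X} (hx : f x = y)
    (hirr : IsIrreducible (connectedComponentIn (f.base ⁻¹' {y}) x)) :
    topologicalKrullDim ↥(connectedComponentIn (f.base ⁻¹' {y}) x) = FlatMor.fibreDimAt f x := by
  obtain ⟨ξ, hfξ, -, -, he, -, hd⟩ := exists_component_generic f hx hirr
  rw [he, hd, ← hfξ, FibDim.dim_closure_inter]

variable {f} {g : Y ⟶ X} (hg : g ≫ f = 𝟙 Y)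

include hg in
theorem apply_section (y : Y) : f (g y) = y := by
  rw [← Scheme.Hom.comp_apply, hg]; rfl

include hg in
/-- EGA IV 15.6.5: upper semicontinuity. -/
theorem upperSemicontinuous_dim (hirr : ∀ y : Y, IsIrreducible (connectedComponentIn (f.base ⁻¹' {y}) (g.base y))) :
    UpperSemicontinuous (fun y : Y => topologicalKrullDim ↥(connectedComponentIn (f.base ⁻¹' {y}) (g.base y))) := by
  intro y b hb
  simp only [dim_component f (apply_section hg _) (hirr _)] at hb ⊢
  obtain ⟨ξ, -, -, -, hd⟩ := FibDim.exists_fibMax_generization f (g y)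
  obtain ⟨W, hW, hWd⟩ := FibDim.exists_nhd_rd_le f (g y) (FibDim.rd f ξ) (le_of_eq hd)
  refine Filter.mem_of_superset ((g ⁻¹ᵁ W).isOpen.mem_nhds hW) fun y' hy' => ?_
  obtain ⟨z, hz, -, -, hzd⟩ := FibDim.exists_fibMax_generization f (g y')
  show FlatMor.fibreDimAt f (g y') < b
  rw [hzd]
  refine lt_of_le_of_lt ?_ hb
  rw [hd]
  exact_mod_cast hWd z (hz.mem_open W.isOpen hy')

include hg in
theorem generic_specializes (hirr : ∀ y : Y, IsIrreducible (connectedComponentIn (f.base ⁻¹' {y}) (g.base y)))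
    {y y' : Y} (hy : y' ⤳ y) {ξ ξ' : X} (hfξ : f ξ = y) (hξg : ξ ⤳ g y) (hξm : FibDim.FibMax f ξ)
    (hfξ' : f ξ' = y') (hξ'g : ξ' ⤳ g y') (hle : FibDim.rd f ξ ≤ FibDim.rd f ξ') : ξ' ⤳ ξ := by
  obtain ⟨ζ, hfζ, hζg, -, -, hζ, -⟩ := exists_component_generic f (apply_section hg y) (hirr y)
  obtain rfl : ζ = ξ := hξm ζ (hζ ξ hfξ hξg) (hfζ.trans hfξ.symm)
  obtain ⟨z, hξ'z, hzg, hfz, hr⟩ := FibDim.exists_rd_ge f (hξ'g.trans (hy.map g.continuous))
  rw [apply_section hg] at hfz
  have h1 := hζ z hfz hzg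
  by_contra hne
  have := FibDim.rd_lt f h1 (fun h => hne (h ▸ hξ'z)) (hfξ.trans hfz.symm)
  omega

end Groth.Agent.UnivOpen
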