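import Mathlib.RingTheory.IntegralClosure.GoingDown
import Mathlib.RingTheory.Polynomial.IsIntegral
import Mathlib.RingTheory.Polynomial.UniqueFactorization
import Mathlib.RingTheory.Valuation.LocalSubring
import Mathlib.FieldTheory.IsAlgClosed.AlgebraicClosure
import Mathlib.FieldTheory.PurelyInseparable.Basic
import Mathlib.RingTheory.TensorProduct.Basic
import Groth.Agent.FibDim.BaseChange

/-!
# Universal lifting of generizations over geometrically unibranch rings (EGA IV 14.4.4)
-/

set_option autoImplicit false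
set_option linter.style.haveILetI false

open TensorProduct MvPolynomial

namespace Groth.Agent.UnivOpen

universe u

theorem isIntegrallyClosed_mvPolynomial (D : Type u) [CommRing D] [IsDomain D] [IsIntegrallyClosed D]
    (σ : Type u) : IsIntegrallyClosed (MvPolynomial σ D) := by
  let K := FractionRing D
  letI : Algebra (MvPolynomial σ D) (MvPolynomial σ K) := MvPolynomial.algebraMvPolynomial
  have : IsIntegrallyClosed (MvPolynomial σ K) := UniqueFactorizationMonoid.instIsIntegrallyClosed
  suffices IsIntegrallyClosedIn (MvPolynomial σ D) (MvPolynomial σ K) from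
    .of_isIntegrallyClosed_of_isIntegrallyClosedIn _ (MvPolynomial σ K)
  refine isIntegrallyClosedIn_iff.mpr ⟨map_injective _ (IsFractionRing.injective D K), ?_⟩
  intro p hp
  obtain ⟨q, hq⟩ : p ∈ RingHom.range (MvPolynomial.map (algebraMap D K)) := by
    refine MvPolynomial.mem_range_map_iff_coeffs_subset.mpr fun c hc => ?_
    obtain ⟨n, -, rfl⟩ := MvPolynomial.mem_coeffs_iff.1 hc
    exact IsIntegrallyClosed.isIntegral_iff.mp (MvPolynomial.isIntegral_iff_isIntegral_coeff.1 hp n)
  exact ⟨q, hq⟩

theorem isIntegral_mvPolynomial (D E : Type u) [CommRing D] [CommRing E] [Algebra D E]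
    [Algebra.IsIntegral D E] (σ : Type u) :
    letI : Algebra (MvPolynomial σ D) (MvPolynomial σ E) := MvPolynomial.algebraMvPolynomial
    Algebra.IsIntegral (MvPolynomial σ D) (MvPolynomial σ E) :=
  letI : Algebra (MvPolynomial σ D) (MvPolynomial σ E) := MvPolynomial.algebraMvPolynomial
  ⟨fun _ => MvPolynomial.isIntegral_iff_isIntegral_coeff.2 fun _ => Algebra.IsIntegral.isIntegral _⟩

variable {A D C : Type u} [CommRing A] [IsLocalRing A] [CommRing D] [IsDomain D] [IsLocalRing D] [Algebra A D]
  [CommRing C] [IsDomain C] [Algebra A C]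

/-- Two maps out of a purely inseparable residue extension agree. -/
theorem eq_of_agree_of_purelyInseparable {Ω : Type u} [Field Ω]
    (hins : ∀ x : D, ∃ (k : ℕ) (a : A),
      x ^ (ringExpChar (IsLocalRing.ResidueField D)) ^ k - algebraMap A D a ∈ IsLocalRing.maximalIdeal D)
    (α β : D →+* Ω) (hα : IsLocalRing.maximalIdeal D ≤ RingHom.ker α)
    (hβ : IsLocalRing.maximalIdeal D ≤ RingHom.ker β)
    (h : ∀ a, α (algebraMap A D a) = β (algebraMap A D a)) : α = β := by
  let q := ringExpChar (IsLocalRing.ResidueField D)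
  haveI : ExpChar (IsLocalRing.ResidueField D) q := ringExpChar.of_eq rfl
  let ι : IsLocalRing.ResidueField D →+* Ω :=
    Ideal.Quotient.lift (IsLocalRing.maximalIdeal D) α fun a ha => hα ha
  haveI : ExpChar Ω q := expChar_of_injective_ringHom ι.injective q
  refine RingHom.ext fun x => ?_
  obtain ⟨k, a, hk⟩ := hins x
  have h1 : α (x ^ q ^ k) = α (algebraMap A D a) := sub_eq_zero.1 (by rw [← map_sub]; exact hα hk)
  have h2 : β (x ^ q ^ k) = β (algebraMap A D a) := sub_eq_zero.1 (by rw [← map_sub]; exact hβ hk)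
  refine iterateFrobenius_inj Ω q k ?_
  simp only [iterateFrobenius_def, ← map_pow]
  rw [h1, h2, h]

/-- Maps to algebraically closed fields extend along integral extensions, with prescribed kernel. -/
theorem exists_lift_of_integral {R S Ω : Type u} [CommRing R] [CommRing S] [Algebra R S] [Algebra.IsIntegral R S]
    [Field Ω] [IsAlgClosed Ω] (φ : R →+* Ω) (q : Ideal S) [q.IsPrime]
    (h : q.comap (algebraMap R S) = RingHom.ker φ) :
    ∃ ψ : S →+* Ω, (∀ r, ψ (algebraMap R S r) = φ r) ∧ RingHom.ker ψ = q := by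
  let p := q.under R
  haveI : p.IsPrime := Ideal.IsPrime.comap _
  have hp : RingHom.ker φ = p := h.symm
  let φ' : R ⧸ p →+* Ω := Ideal.Quotient.lift p φ fun a ha => by rwa [← RingHom.mem_ker, hp]
  have hφ' : Function.Injective φ' := by
    refine RingHom.lift_injective_of_ker_le_ideal _ _ ?_
    rw [hp]
  letI := φ'.toAlgebra
  haveI : FaithfulSMul (R ⧸ p) Ω := (faithfulSMul_iff_algebraMap_injective _ _).2 hφ'
  let ψ₀ : (S ⧸ q) →ₐ[R ⧸ p] Ω := IsAlgClosed.lift
  have hψ₀ : RingHom.ker ψ₀.toRingHom = ⊥ := by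
    refine Ideal.eq_bot_of_comap_eq_bot (R := R ⧸ p) (eq_bot_iff.2 fun a ha => hφ' ?_)
    rw [map_zero]
    show algebraMap (R ⧸ p) Ω a = 0
    rw [← ψ₀.commutes]
    exact ha
  refine ⟨ψ₀.toRingHom.comp (Ideal.Quotient.mk q), fun r => ψ₀.commutes (Ideal.Quotient.mk p r), ?_⟩
  rw [← RingHom.comap_ker, hψ₀, ← RingHom.ker_eq_comap_bot, Ideal.mk_ker]

/-- An integral domain algebra over a geometrically unibranch local ring lifts generizations universally. -/
theorem exists_prime_le_of_geomUnibranch [IsDomain A] [IsIntegrallyClosed D]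
    (hAD : Function.Injective (algebraMap A D)) [Algebra.IsIntegral A D]
    (hins : ∀ x : D, ∃ (k : ℕ) (a : A),
      x ^ (ringExpChar (IsLocalRing.ResidueField D)) ^ k - algebraMap A D a ∈ IsLocalRing.maximalIdeal D)
    (hAC : Function.Injective (algebraMap A C)) [Algebra.IsIntegral A C]
    {V : Type u} [CommRing V] [IsDomain V] [IsLocalRing V] [Algebra A V] [IsLocalHom (algebraMap A V)]
    (Q : Ideal (C ⊗[A] V)) [Q.IsPrime]
    (hQ : Q.comap (Algebra.TensorProduct.includeRight : V →ₐ[A] C ⊗[A] V).toRingHom = IsLocalRing.maximalIdeal V) :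
    ∃ R : Ideal (C ⊗[A] V), R.IsPrime ∧ R ≤ Q ∧
      R.comap (Algebra.TensorProduct.includeRight : V →ₐ[A] C ⊗[A] V).toRingHom = ⊥ := by
  classical
  have hmax : ∀ {Ω : Type u} [Field Ω] (α : D →+* Ω), (∀ a ∈ IsLocalRing.maximalIdeal A, α (algebraMap A D a) = 0) →
      IsLocalRing.maximalIdeal D ≤ RingHom.ker α := fun {Ω} _ α h => by
    haveI : (RingHom.ker α).IsPrime := RingHom.ker_isPrime α
    have h1 : (RingHom.ker α).comap (algebraMap A D) = IsLocalRing.maximalIdeal A :=
      le_antisymm (IsLocalRing.le_maximalIdeal_of_isPrime _) fun a ha => h a ha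
    exact (IsLocalRing.eq_maximalIdeal (Ideal.isMaximal_of_isIntegral_of_isMaximal_comap (R := A) _
      (h1 ▸ IsLocalRing.maximalIdeal.isMaximal A))).ge
  -- a domain `E` receiving `C` and `D`
  let L := AlgebraicClosure (FractionRing C)
  have hAL : Function.Injective (algebraMap A L) := by
    rw [IsScalarTower.algebraMap_eq A (FractionRing C) L, IsScalarTower.algebraMap_eq A C (FractionRing C)]
    exact (algebraMap (FractionRing C) L).injective.comp ((IsFractionRing.injective C (FractionRing C)).comp hAC)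
  obtain ⟨δ, hδ, hδker⟩ := exists_lift_of_integral (algebraMap A L) (⊥ : Ideal D) (by
    rw [← RingHom.ker_eq_comap_bot, (RingHom.injective_iff_ker_eq_bot _).1 hAD,
      (RingHom.injective_iff_ker_eq_bot _).1 hAL])
  let γ : C →ₐ[A] L := (IsScalarTower.toAlgHom A (FractionRing C) L).comp (IsScalarTower.toAlgHom A C (FractionRing C))
  have hγ : Function.Injective γ :=
    (algebraMap (FractionRing C) L).injective.comp (IsFractionRing.injective C (FractionRing C))
  let δA : D →ₐ[A] L := { δ with commutes' := hδ }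
  let E := integralClosure A L
  let δ' : D →ₐ[A] E := δA.codRestrict E fun d => (Algebra.IsIntegral.isIntegral (R := A) d).map δA
  let γ' : C →ₐ[A] E := γ.codRestrict E fun c => (Algebra.IsIntegral.isIntegral (R := A) c).map γ
  have hδ' : Function.Injective δ' := fun a b hab =>
    (RingHom.injective_iff_ker_eq_bot δ).2 hδker (congrArg Subtype.val hab)
  have hγ' : Function.Injective γ' := fun a b hab => hγ (congrArg Subtype.val hab)
  -- the valuation ring `V'`
  let K' := AlgebraicClosure (FractionRing V)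
  let f : V →+* K' := (algebraMap (FractionRing V) K').comp (algebraMap V (FractionRing V))
  have hf : Function.Injective f :=
    (algebraMap (FractionRing V) K').injective.comp (IsFractionRing.injective V (FractionRing V))
  haveI : (RingHom.ker (f.comp (algebraMap A V))).IsPrime := RingHom.ker_isPrime _
  obtain ⟨q, hqp, hq⟩ := Ideal.exists_ideal_over_prime_of_isIntegral_of_isDomain (S := D)
    (RingHom.ker (f.comp (algebraMap A V))) (by rw [(RingHom.injective_iff_ker_eq_bot _).1 hAD]; exact bot_le)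
  obtain ⟨aK, haK, -⟩ := exists_lift_of_integral (f.comp (algebraMap A V)) q hq
  obtain ⟨V', hVV', hloc⟩ := IsLocalRing.exists_factor_valuationRing f
  let fV : V →+* V' := f.codRestrict V'.toSubring hVV'
  haveI : IsLocalHom fV := hloc
  have haV : ∀ d, aK d ∈ V' := fun d => by
    obtain ⟨P, hP, he⟩ := Algebra.IsIntegral.isIntegral (R := A) d
    have hint : IsIntegral V' (aK d) := by
      refine ⟨P.map (fV.comp (algebraMap A V)), hP.map _, ?_⟩
      rw [Polynomial.eval₂_map, show (algebraMap V' K').comp (fV.comp (algebraMap A V)) = aK.comp (algebraMap A D) from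
        RingHom.ext fun a => (haK a).symm, ← Polynomial.hom_eval₂, he, map_zero]
    obtain ⟨y, hy⟩ := IsIntegrallyClosed.isIntegral_iff.1 hint
    rw [← hy]
    exact y.2
  let aV : D →+* V' := aK.codRestrict V'.toSubring haV
  -- a common field for the residue fields
  let Φ₀ : C ⊗[A] V →+* Q.ResidueField := algebraMap _ _
  have hΦ₀ : RingHom.ker Φ₀ = Q := Ideal.ker_algebraMap_residueField Q
  let incR : V →+* C ⊗[A] V := (Algebra.TensorProduct.includeRight : V →ₐ[A] C ⊗[A] V).toRingHom
  let incL : C →+* C ⊗[A] V := Algebra.TensorProduct.includeLeftRingHom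
  have hinc : ∀ a, incL (algebraMap A C a) = incR (algebraMap A V a) := fun a => by
    show (algebraMap A C a) ⊗ₜ[A] (1 : V) = (1 : C) ⊗ₜ[A] (algebraMap A V a)
    rw [Algebra.algebraMap_eq_smul_one, Algebra.algebraMap_eq_smul_one, TensorProduct.smul_tmul]
  have hkV : RingHom.ker (Φ₀.comp incR) = IsLocalRing.maximalIdeal V := by rw [← RingHom.comap_ker, hΦ₀]; exact hQ
  let ρ : IsLocalRing.ResidueField V →+* Q.ResidueField :=
    Ideal.Quotient.lift (IsLocalRing.maximalIdeal V) (Φ₀.comp incR) fun v hv => by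
      rwa [← RingHom.mem_ker, hkV]
  letI : Algebra (IsLocalRing.ResidueField V) Q.ResidueField := ρ.toAlgebra
  letI : Algebra (IsLocalRing.ResidueField V) (IsLocalRing.ResidueField V') :=
    (IsLocalRing.ResidueField.map fV).toAlgebra
  obtain ⟨Ω₁, _, eQ₁, eV₁, he₁⟩ := FibDim.exists_fieldCompositum (IsLocalRing.ResidueField V) Q.ResidueField
    (IsLocalRing.ResidueField V')
  let Ω := AlgebraicClosure Ω₁
  let eQ : C ⊗[A] V →+* Ω := (algebraMap Ω₁ Ω).comp (eQ₁.comp Φ₀)
  let eV : V' →+* Ω := (algebraMap Ω₁ Ω).comp (eV₁.comp (IsLocalRing.residue V'))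
  have heV : ∀ v, eQ (incR v) = eV (fV v) := fun v => congrArg (algebraMap Ω₁ Ω) (he₁ (IsLocalRing.residue V v))
  have heQ : RingHom.ker eQ = Q := by
    show RingHom.ker (((algebraMap Ω₁ Ω).comp eQ₁).comp Φ₀) = Q
    rw [RingHom.ker_comp_of_injective _ ((algebraMap Ω₁ Ω).comp eQ₁).injective, hΦ₀]
  have hA0 : ∀ a ∈ IsLocalRing.maximalIdeal A, eQ (incR (algebraMap A V a)) = 0 := fun a ha => by
    have h1 : incR (algebraMap A V a) ∈ Q := by
      rw [← Ideal.mem_comap]
      show algebraMap A V a ∈ Q.comap incR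
      rw [hQ]
      exact map_nonunit (algebraMap A V) a ha
    rwa [← RingHom.mem_ker, heQ]
  -- extend to `E`
  letI : Algebra C E := γ'.toRingHom.toAlgebra
  haveI : IsScalarTower A C E := IsScalarTower.of_algebraMap_eq fun a => (γ'.commutes a).symm
  haveI : Algebra.IsIntegral A E := ⟨fun e => by
    obtain ⟨P, hP, he⟩ := e.2
    refine ⟨P, hP, Subtype.val_injective ?_⟩
    show E.val (Polynomial.eval₂ (algebraMap A E) e P) = 0
    rw [← Polynomial.aeval_def, ← Polynomial.aeval_algHom_apply]
    exact he⟩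
  haveI : Algebra.IsIntegral C E := Algebra.IsIntegral.tower_top (R := A)
  haveI : (RingHom.ker (eQ.comp incL)).IsPrime := RingHom.ker_isPrime _
  obtain ⟨n', hn'p, hn'⟩ := Ideal.exists_ideal_over_prime_of_isIntegral_of_isDomain (S := E)
    (RingHom.ker (eQ.comp incL)) (by
      rw [show RingHom.ker (algebraMap C E) = ⊥ from (RingHom.injective_iff_ker_eq_bot _).1 hγ']; exact bot_le)
  obtain ⟨ψ, hψ, -⟩ := exists_lift_of_integral (eQ.comp incL) n' hn'
  have hαβ : eV.comp aV = ψ.comp δ'.toRingHom := by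
    have h1 : ∀ a, (eV.comp aV) (algebraMap A D a) = eQ (incR (algebraMap A V a)) := fun a => by
      rw [heV]
      exact congrArg eV (Subtype.ext (haK a))
    have h2 : ∀ a, (ψ.comp δ'.toRingHom) (algebraMap A D a) = eQ (incR (algebraMap A V a)) := fun a => by
      rw [← hinc]
      refine Eq.trans ?_ (hψ _)
      exact congrArg ψ ((δ'.commutes a).trans (γ'.commutes a).symm)
    exact eq_of_agree_of_purelyInseparable hins _ _ (hmax _ fun a ha => (h1 a).trans (hA0 a ha))
      (hmax _ fun a ha => (h2 a).trans (hA0 a ha)) fun a => (h1 a).trans (h2 a).symm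
  -- fields detecting elements outside `Q`
  have key : ∀ h, h ∉ Q → ∀ v : V, v ≠ 0 → h * incR v ≠ 0 := fun h hh v hv => by
    obtain ⟨S, hS⟩ := TensorProduct.exists_finset h
    let σ : Type u := {p : C × V // p ∈ S}
    letI : Algebra D E := δ'.toRingHom.toAlgebra
    haveI : IsScalarTower A D E := IsScalarTower.of_algebraMap_eq fun a => (δ'.commutes a).symm
    haveI : Algebra.IsIntegral D E := Algebra.IsIntegral.tower_top (R := A)
    haveI : FaithfulSMul D E := (faithfulSMul_iff_algebraMap_injective _ _).2 hδ'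
    letI : Algebra (MvPolynomial σ D) (MvPolynomial σ E) := MvPolynomial.algebraMvPolynomial
    haveI := isIntegrallyClosed_mvPolynomial D σ
    haveI := isIntegral_mvPolynomial D E σ
    haveI : FaithfulSMul (MvPolynomial σ D) (MvPolynomial σ E) :=
      (faithfulSMul_iff_algebraMap_injective _ _).2 (MvPolynomial.map_injective _ hδ')
    let θ : MvPolynomial σ D →+* V' := MvPolynomial.eval₂Hom aV fun i => fV i.1.2
    let χ : MvPolynomial σ E →+* Ω := MvPolynomial.eval₂Hom ψ fun i => eV (fV i.1.2)
    let H : MvPolynomial σ E := ∑ i : σ, MvPolynomial.C (γ' i.1.1) * MvPolynomial.X i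
    have hχθ : χ.comp (algebraMap (MvPolynomial σ D) (MvPolynomial σ E)) = eV.comp θ := by
      refine MvPolynomial.ringHom_ext (fun d => ?_) fun i => ?_
      · rw [RingHom.comp_apply, RingHom.comp_apply, MvPolynomial.algebraMap_def, MvPolynomial.map_C]
        simp only [χ, θ, MvPolynomial.eval₂Hom_C]
        exact (RingHom.congr_fun hαβ d).symm
      · rw [RingHom.comp_apply, RingHom.comp_apply, MvPolynomial.algebraMap_def, MvPolynomial.map_X]
        simp only [χ, θ, MvPolynomial.eval₂Hom_X']
    have hsum : ∀ {W : Type u} [CommRing W] (Φ : C ⊗[A] V →+* W),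
        Φ h = ∑ i : σ, Φ (incL i.1.1) * Φ (incR i.1.2) := fun Φ => by
      conv_lhs => rw [hS, map_sum, ← Finset.sum_coe_sort]
      refine Finset.sum_congr rfl fun i _ => ?_
      rw [← map_mul]
      refine congrArg Φ ?_
      show _ = (i.1.1 ⊗ₜ[A] (1 : V)) * ((1 : C) ⊗ₜ[A] i.1.2)
      rw [Algebra.TensorProduct.tmul_mul_tmul, mul_one, one_mul]
    have hHχ : H ∉ RingHom.ker χ := by
      rw [RingHom.mem_ker]
      have : χ H = eQ h := by
        rw [hsum eQ, map_sum]
        refine Finset.sum_congr rfl fun i _ => ?_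
        rw [map_mul]
        simp only [χ, MvPolynomial.eval₂Hom_C, MvPolynomial.eval₂Hom_X', heV]
        congr 1
        exact hψ _
      rw [this, ← RingHom.mem_ker, heQ]
      exact hh
    haveI : (RingHom.ker χ).IsPrime := RingHom.ker_isPrime χ
    let θK : MvPolynomial σ D →+* K' := (algebraMap V' K').comp θ
    haveI : (RingHom.ker θK).IsPrime := RingHom.ker_isPrime θK
    have hle : RingHom.ker θK ≤ (RingHom.ker χ).under (MvPolynomial σ D) := fun G hG => by
      show χ (algebraMap _ _ G) = 0
      rw [← RingHom.comp_apply, hχθ, RingHom.comp_apply,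
        show θ G = 0 from Subtype.val_injective (RingHom.mem_ker.1 hG), map_zero]
    obtain ⟨R, hRle, hRp, hRo⟩ := Ideal.exists_ideal_le_liesOver_of_le (R := MvPolynomial σ D)
      (p := RingHom.ker θK) (q := (RingHom.ker χ).under (MvPolynomial σ D)) (RingHom.ker χ) hle
    let P := RingHom.ker θK
    let k₂ := P.ResidueField
    let iR : k₂ →+* R.ResidueField :=
      Ideal.ResidueField.map P R (algebraMap (MvPolynomial σ D) (MvPolynomial σ E)) hRo.over
    have hu : P.primeCompl ≤ (IsUnit.submonoid K').comap θK := fun G hG =>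
      (show θK G ≠ 0 from fun h0 => hG h0).isUnit
    let iK : k₂ →+* K' := Ideal.ResidueField.lift P θK le_rfl hu
    letI : Algebra k₂ R.ResidueField := iR.toAlgebra
    letI : Algebra k₂ K' := iK.toAlgebra
    obtain ⟨Ω₂, _, eR, eK, he₂⟩ := FibDim.exists_fieldCompositum k₂ R.ResidueField K'
    have hcomm : ∀ G, eR (algebraMap _ R.ResidueField (algebraMap (MvPolynomial σ D) (MvPolynomial σ E) G)) =
        eK (θK G) := fun G => by
      rw [← Ideal.ResidueField.lift_algebraMap P θK le_rfl hu G,
        ← Ideal.ResidueField.map_algebraMap P R (algebraMap (MvPolynomial σ D) (MvPolynomial σ E)) hRo.over G]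
      exact he₂ (algebraMap _ _ G)
    letI : Algebra A Ω₂ := (eK.comp (f.comp (algebraMap A V))).toAlgebra
    let gC : C →ₐ[A] Ω₂ :=
      { eR.comp ((algebraMap (MvPolynomial σ E) R.ResidueField).comp ((MvPolynomial.C).comp γ'.toRingHom)) with
        commutes' := fun a => by
          show eR (algebraMap (MvPolynomial σ E) R.ResidueField (MvPolynomial.C (γ' (algebraMap A C a)))) = eK (f (algebraMap A V a))
          rw [γ'.commutes, ← δ'.commutes a]
          refine Eq.trans ?_ ((hcomm (MvPolynomial.C (algebraMap A D a))).trans ?_)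
          · rw [MvPolynomial.algebraMap_def, MvPolynomial.map_C]
            rfl
          · congr 1
            show ((θ (MvPolynomial.C (algebraMap A D a))) : K') = _
            rw [show θ (MvPolynomial.C (algebraMap A D a)) = aV (algebraMap A D a) from MvPolynomial.eval₂Hom_C _ _ _]
            exact haK a }
    let gV : V →ₐ[A] Ω₂ := { eK.comp f with commutes' := fun _ => rfl }
    let Φ₂ : C ⊗[A] V →ₐ[A] Ω₂ := Algebra.TensorProduct.lift gC gV fun _ _ => .all _ _
    intro h0
    have h1 := congrArg Φ₂.toRingHom h0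
    rw [map_mul, map_zero, hsum Φ₂.toRingHom] at h1
    have hL : ∀ c, Φ₂.toRingHom (incL c) = gC c := fun c => by
      show Φ₂ (c ⊗ₜ[A] (1 : V)) = gC c
      simp [Φ₂]
    have hR : ∀ w, Φ₂.toRingHom (incR w) = gV w := fun w => by
      show Φ₂ ((1 : C) ⊗ₜ[A] w) = gV w
      simp [Φ₂]
    have h2 : ∑ i : σ, Φ₂.toRingHom (incL i.1.1) * Φ₂.toRingHom (incR i.1.2) = eR (algebraMap _ R.ResidueField H) := by
      rw [map_sum, map_sum]
      refine Finset.sum_congr rfl fun i _ => ?_
      rw [hL, hR, map_mul, map_mul]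
      congr 1
      refine Eq.trans ?_ (Eq.trans (hcomm (MvPolynomial.X i)).symm ?_)
      · show eK (f i.1.2) = eK (((θ (MvPolynomial.X i)) : V') : K')
        simp only [θ, MvPolynomial.eval₂Hom_X']
        rfl
      · rw [MvPolynomial.algebraMap_def, MvPolynomial.map_X]
    rw [h2, hR] at h1
    rcases mul_eq_zero.1 h1 with h1 | h1
    · rw [map_eq_zero, Ideal.algebraMap_residueField_eq_zero] at h1
      exact hHχ (hRle h1)
    · exact hv (hf ((map_eq_zero eK).1 h1 |>.trans (map_zero f).symm))
  let M : Submonoid (C ⊗[A] V) :=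
    { carrier := {x | ∃ h v, h ∉ Q ∧ v ≠ 0 ∧ x = h * incR v}
      one_mem' := ⟨1, 1, fun h => Ideal.IsPrime.ne_top inferInstance ((Ideal.eq_top_iff_one Q).2 h), one_ne_zero, by simp⟩
      mul_mem' := by
        rintro _ _ ⟨h, v, hh, hv, rfl⟩ ⟨h', v', hh', hv', rfl⟩
        exact ⟨h * h', v * v', fun hm => (Ideal.IsPrime.mem_or_mem inferInstance hm).elim hh hh',
          mul_ne_zero hv hv', by rw [map_mul]; ring⟩ }
  obtain ⟨R, hR, -, hdisj⟩ := Ideal.exists_le_prime_disjoint (⊥ : Ideal (C ⊗[A] V)) M (by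
    rw [Set.disjoint_left]
    rintro _ hx0 ⟨h, v, hh, hv, rfl⟩
    exact key h hh v hv hx0)
  refine ⟨R, hR, fun x hx => ?_, eq_bot_iff.2 fun v hv => ?_⟩
  · by_contra hxQ
    exact Set.disjoint_left.1 hdisj hx ⟨x, 1, hxQ, one_ne_zero, by simp⟩
  · by_contra hv0
    exact Set.disjoint_left.1 hdisj (show incR v ∈ R from hv)
      ⟨1, v, fun h => Ideal.IsPrime.ne_top inferInstance ((Ideal.eq_top_iff_one Q).2 h), hv0, by simp⟩

end Groth.Agent.UnivOpen
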