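import Groth.Agent.UnivOpen.UnibranchAlg
import Groth.Agent.UnivOpen.Criterion
import Groth.Prelude.Def_CAlg2
import Mathlib.RingTheory.ZariskisMainTheorem
import Mathlib.AlgebraicGeometry.ZariskisMainTheorem

/-!
# Quasi-finite morphisms over geometrically unibranch points are universally open
-/

set_option autoImplicit false
set_option linter.style.haveILetI false

open AlgebraicGeometry CategoryTheory Limits Topology TensorProduct

namespace Groth.Agent.UnivOpen

universe u

variable {X Y : Scheme.{u}} (f : X ⟶ Y)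

/-- Elements of the stalk at a quasi-finite point are fractions of integral elements. -/
theorem exists_fraction_of_quasiFiniteAt [LocallyOfFiniteType f] {x : X} (hqf : f.QuasiFiniteAt x) :
    letI := (f.stalkMap x).hom.toAlgebra
    ∀ s : X.presheaf.stalk x, ∃ c d : integralClosure (Y.presheaf.stalk (f x)) (X.presheaf.stalk x),
      IsUnit d.1 ∧ s * d.1 = c.1 := by
  letI := (f.stalkMap x).hom.toAlgebra
  obtain ⟨V, hV, hxV, -⟩ := exists_isAffineOpen_mem_and_subset (x := f x) (U := ⊤) trivial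
  obtain ⟨W, hW, hxW, hWV⟩ := exists_isAffineOpen_mem_and_subset (x := x) (U := f ⁻¹ᵁ V) hxV
  let φ := f.appLE V W hWV
  letI : Algebra Γ(Y, V) Γ(X, W) := φ.hom.toAlgebra
  haveI : Algebra.FiniteType Γ(Y, V) Γ(X, W) :=
    HasRingHomProperty.appLE (P := @LocallyOfFiniteType) f inferInstance ⟨V, hV⟩ ⟨W, hW⟩ hWV
  let p := (hW.primeIdealOf ⟨x, hxW⟩).asIdeal
  haveI : Algebra.QuasiFiniteAt Γ(Y, V) p := hqf.quasiFiniteAt hW hV hWV hxW
  obtain ⟨r, hr, hri, hx⟩ := Algebra.zariskisMainProperty_iff.1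
    (Algebra.ZariskisMainProperty.of_finiteType (R := Γ(Y, V)) p)
  letI : Algebra Γ(X, W) (X.presheaf.stalk x) := (X.presheaf.germ W x hxW).hom.toAlgebra
  haveI : IsLocalization.AtPrime (X.presheaf.stalk x) p := hW.isLocalization_stalk ⟨x, hxW⟩
  have hint : ∀ {b : Γ(X, W)}, IsIntegral Γ(Y, V) b →
      IsIntegral (Y.presheaf.stalk (f x)) (algebraMap Γ(X, W) (X.presheaf.stalk x) b) := by
    rintro b ⟨P, hP, he⟩
    refine ⟨P.map (Y.presheaf.germ V (f x) hxV).hom, hP.map _, ?_⟩
    rw [Polynomial.eval₂_map]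
    have hc : (algebraMap (Y.presheaf.stalk (f x)) (X.presheaf.stalk x)).comp (Y.presheaf.germ V (f x) hxV).hom =
        (algebraMap Γ(X, W) (X.presheaf.stalk x)).comp (algebraMap Γ(Y, V) Γ(X, W)) := by
      show ((Y.presheaf.germ V (f x) hxV) ≫ f.stalkMap x).hom = (φ ≫ X.presheaf.germ W x hxW).hom
      rw [f.germ_stalkMap, Scheme.Hom.app_eq_appLE]
      simp only [φ, Scheme.Hom.appLE, Category.assoc]
      rw [TopCat.Presheaf.germ_res, TopCat.Presheaf.germ_res]
    rw [hc, ← Polynomial.hom_eval₂, he, map_zero]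
  intro s
  obtain ⟨⟨b, t⟩, hbt⟩ := IsLocalization.surj p.primeCompl s
  obtain ⟨m₁, h₁⟩ := hx b
  obtain ⟨m₂, h₂⟩ := hx t.1
  refine ⟨⟨_, hint (h₁.mul (hri.pow m₂))⟩, ⟨_, hint (h₂.mul (hri.pow m₁))⟩, ?_, ?_⟩
  · show IsUnit (algebraMap Γ(X, W) (X.presheaf.stalk x) (r ^ m₂ * t.1 * r ^ m₁))
    have hru : IsUnit (algebraMap Γ(X, W) (X.presheaf.stalk x) r) :=
      IsLocalization.map_units (X.presheaf.stalk x) (⟨r, hr⟩ : p.primeCompl)
    rw [map_mul, map_mul, map_pow, map_pow]
    exact ((hru.pow _).mul (IsLocalization.map_units _ t)).mul (hru.pow _)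
  · show s * algebraMap Γ(X, W) (X.presheaf.stalk x) (r ^ m₂ * t.1 * r ^ m₁) =
      algebraMap Γ(X, W) (X.presheaf.stalk x) (r ^ m₁ * b * r ^ m₂)
    simp only [map_mul]
    rw [← hbt]
    ring

/-- The data carried by a geometrically unibranch local ring. -/
theorem geomUnibranch_data {O : Type u} [CommRing O] [IsLocalRing O] (h : CAlg2.IsGeomUnibranch O) :
    IsDomain (CAlg2.red O) ∧ IsLocalRing (CAlg2.normRed O) ∧ IsIntegrallyClosed (CAlg2.normRed O) ∧
      Function.Injective (algebraMap (CAlg2.red O) (CAlg2.normRed O)) ∧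
      Algebra.IsIntegral (CAlg2.red O) (CAlg2.normRed O) ∧
      ∀ [IsLocalRing (CAlg2.normRed O)] (z : CAlg2.normRed O), ∃ (k : ℕ) (a : CAlg2.red O),
        z ^ (ringExpChar (IsLocalRing.ResidueField (CAlg2.normRed O))) ^ k -
          algebraMap (CAlg2.red O) (CAlg2.normRed O) a ∈ IsLocalRing.maximalIdeal (CAlg2.normRed O) := by
  obtain ⟨⟨hdom, hloc⟩, hins⟩ := h
  haveI := hdom
  haveI := hloc
  haveI : IsFractionRing (CAlg2.normRed O) (FractionRing (CAlg2.red O)) :=
    integralClosure.isFractionRing_of_finite_extension (FractionRing (CAlg2.red O)) _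
  refine ⟨hdom, hloc, integralClosure.isIntegrallyClosedOfFiniteExtension (FractionRing (CAlg2.red O)),
    fun a b hab => IsFractionRing.injective _ (FractionRing (CAlg2.red O)) (congrArg Subtype.val hab),
    inferInstance, fun {_} z => ?_⟩
  obtain ⟨k, a, ha⟩ := hins (IsLocalRing.maximalIdeal (CAlg2.normRed O)) (Ideal.Quotient.mk _ z)
  refine ⟨k, Ideal.Quotient.mk _ a, ?_⟩
  rw [← Ideal.Quotient.eq_zero_iff_mem, map_sub, map_pow, sub_eq_zero]
  exact ha.symm

set_option maxHeartbeats 1000000 in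
/-- A quasi-finite morphism at a point with integral stalk, dominating a geometrically unibranch point,
is universally open there. -/
theorem isUnivOpenAt_of_quasiFinite [LocallyOfFiniteType f] [IsLocallyNoetherian Y] (x : X)
    [IsDomain (X.presheaf.stalk x)] (hqf : f.QuasiFiniteAt x)
    (hy : CAlg2.IsGeomUnibranch (Y.presheaf.stalk (f x)))
    (hker : RingHom.ker (f.stalkMap x).hom ≤ nilradical (Y.presheaf.stalk (f x))) :
    EGA43.IsUnivOpenAt f x := by
  refine (isUnivOpenAt_iff_dvr f x).2 fun A _ _ _ g hg x' hx' hxc => ?_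
  obtain ⟨hdom, hlocD, hnorm, hADi, hADint, hins⟩ := geomUnibranch_data hy
  haveI := hdom
  haveI := hlocD
  haveI := hnorm
  haveI := hADint
  let O := Y.presheaf.stalk (f x)
  let S := X.presheaf.stalk x
  let φ : O →+* S := (f.stalkMap x).hom
  letI algOS : Algebra O S := φ.toAlgebra
  haveI : (nilradical O).IsPrime := (Ideal.Quotient.isDomain_iff_prime _).1 hdom
  haveI : IsLocalRing (CAlg2.red O) := IsLocalRing.of_surjective' _ Ideal.Quotient.mk_surjective
  have hφnil : ∀ a ∈ nilradical O, φ a = 0 := fun a ha => (IsNilpotent.map ha φ).eq_zero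
  let φr : CAlg2.red O →+* S := Ideal.Quotient.lift _ φ hφnil
  letI : Algebra (CAlg2.red O) S := φr.toAlgebra
  have hφr : Function.Injective φr := RingHom.lift_injective_of_ker_le_ideal _ _ hker
  let C := integralClosure (CAlg2.red O) S
  have hfrac : ∀ s : S, ∃ c d : C, IsUnit d.1 ∧ s * d.1 = c.1 := fun s => by
    obtain ⟨⟨c, P, hP, hPc⟩, ⟨d, P', hP', hP'd⟩, hd, he⟩ := exists_fraction_of_quasiFiniteAt f hqf s
    exact ⟨⟨c, P.map (Ideal.Quotient.mk _), hP.map _, by rw [Polynomial.eval₂_map]; exact hPc⟩,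
      ⟨d, P'.map (Ideal.Quotient.mk _), hP'.map _, by rw [Polynomial.eval₂_map]; exact hP'd⟩, hd, he⟩
  let M : Submonoid C := (IsUnit.submonoid S).comap C.val
  haveI : IsLocalization M S :=
    { map_units := fun m => m.2
      surj := fun s => by
        obtain ⟨c, d, hd, he⟩ := hfrac s
        exact ⟨⟨c, ⟨d, hd⟩⟩, he⟩
      exists_of_eq := fun h => ⟨1, by rw [Subtype.val_injective h]⟩ }
  -- the base
  let σ : O →+* A := ((Y.presheaf.stalkCongr (.of_eq hg.symm)).hom ≫ Scheme.stalkClosedPointTo g).hom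
  have hσg : Spec.map (CommRingCat.ofHom σ) ≫ Y.fromSpecStalk (f x) = g := by
    have h1 := Scheme.Spec_stalkClosedPointTo_fromSpecStalk g
    rw [← Scheme.SpecMap_stalkSpecializes_fromSpecStalk (X := Y) (specializes_of_eq hg), ← Spec.map_comp_assoc] at h1
    exact h1
  haveI : IsLocalHom σ := by
    refine @RingHom.isLocalHom_comp _ _ _ _ _ _ (Scheme.stalkClosedPointTo g).hom _ inferInstance ?_
    exact isLocalHom_of_isIso (Y.presheaf.stalkCongr (.of_eq hg.symm)).hom
  have hσnil : ∀ a ∈ nilradical O, σ a = 0 := fun a ha => (IsNilpotent.map ha σ).eq_zero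
  let σr : CAlg2.red O →+* A := Ideal.Quotient.lift _ σ hσnil
  letI : Algebra (CAlg2.red O) A := σr.toAlgebra
  haveI : IsLocalHom (algebraMap (CAlg2.red O) A) := ⟨fun a ha => by
    obtain ⟨a, rfl⟩ := Ideal.Quotient.mk_surjective a
    exact (isUnit_of_map_unit σ a ha).map _⟩
  -- the point
  let κ := (pullback f g).residueField x'
  let ι := (pullback f g).fromSpecResidueField x'
  let pt : Spec κ := IsLocalRing.closedPoint κ
  have hι : ι pt = x' := Scheme.fromSpecResidueField_apply _ _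
  have hfst : (ι ≫ pullback.fst f g) pt = x := by rw [Scheme.Hom.comp_apply, hι, hx']
  let a : S →+* κ := ((X.presheaf.stalkCongr (.of_eq hfst.symm)).hom ≫
    Scheme.stalkClosedPointTo (ι ≫ pullback.fst f g)).hom
  have haι : Spec.map (CommRingCat.ofHom a) ≫ X.fromSpecStalk x = ι ≫ pullback.fst f g := by
    have h1 := Scheme.Spec_stalkClosedPointTo_fromSpecStalk (ι ≫ pullback.fst f g)
    rw [← Scheme.SpecMap_stalkSpecializes_fromSpecStalk (X := X) (specializes_of_eq hfst), ← Spec.map_comp_assoc] at h1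
    exact h1
  let b : CommRingCat.of A ⟶ κ := Spec.preimage (ι ≫ pullback.snd f g)
  have hbι : Spec.map b = ι ≫ pullback.snd f g := Spec.map_preimage _
  have hab : a.comp φ = b.hom.comp σ := by
    have h1 : Spec.map (f.stalkMap x ≫ CommRingCat.ofHom a) ≫ Y.fromSpecStalk (f x) =
        Spec.map (CommRingCat.ofHom σ ≫ b) ≫ Y.fromSpecStalk (f x) := by
      rw [Spec.map_comp_assoc, Spec.map_comp_assoc, Scheme.SpecMap_stalkMap_fromSpecStalk, hσg, hbι]
      refine (Category.assoc _ _ _).symm.trans ((congrArg (· ≫ f) haι).trans ?_)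
      rw [Category.assoc, Category.assoc, pullback.condition]
    exact congrArg CommRingCat.Hom.hom (Spec.map_injective ((cancel_mono _).1 h1))
  have hbk : RingHom.ker b.hom = IsLocalRing.maximalIdeal A := by
    have h1 : (Spec.map b) pt = IsLocalRing.closedPoint A := by
      rw [hbι, Scheme.Hom.comp_apply, hι, hxc]
    refine Eq.trans ?_ (congrArg PrimeSpectrum.asIdeal h1)
    show RingHom.ker b.hom = (IsLocalRing.maximalIdeal κ).comap b.hom
    rw [IsLocalRing.maximalIdeal_eq_bot, ← RingHom.ker_eq_comap_bot]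
  letI : Algebra (CAlg2.red O) κ := (a.comp φr).toAlgebra
  let aC : C →ₐ[CAlg2.red O] κ := { a.comp C.val.toRingHom with commutes' := fun _ => rfl }
  have hbA : ∀ t, b.hom (algebraMap (CAlg2.red O) A t) = algebraMap (CAlg2.red O) κ t := fun t => by
    obtain ⟨t, rfl⟩ := Ideal.Quotient.mk_surjective t
    exact (RingHom.congr_fun hab t).symm
  let bA : A →ₐ[CAlg2.red O] κ := { b.hom with commutes' := hbA }
  let Φ : C ⊗[CAlg2.red O] A →ₐ[CAlg2.red O] κ := Algebra.TensorProduct.lift aC bA fun _ _ => .all _ _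
  let Q := RingHom.ker Φ.toRingHom
  haveI : Q.IsPrime := RingHom.ker_isPrime _
  let incR : A →+* C ⊗[CAlg2.red O] A :=
    (Algebra.TensorProduct.includeRight : A →ₐ[CAlg2.red O] C ⊗[CAlg2.red O] A).toRingHom
  let incL : C →+* C ⊗[CAlg2.red O] A := Algebra.TensorProduct.includeLeftRingHom
  have hΦR : ∀ v, Φ (incR v) = b.hom v := fun v => by
    show Φ ((1 : C) ⊗ₜ v) = _
    simp [Φ]; rfl
  have hΦL : ∀ c : C, Φ (incL c) = a c.1 := fun c => by
    show Φ (c ⊗ₜ (1 : A)) = _
    simp [Φ]; rfl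
  obtain ⟨R, hR, hRQ, hR0⟩ := exists_prime_le_of_geomUnibranch (A := CAlg2.red O) (D := CAlg2.normRed O) (C := C)
    (V := A) hADi (fun z => hins z) (fun s t hst => hφr (congrArg Subtype.val hst)) Q (by
      ext v
      rw [Ideal.mem_comap, ← hbk, RingHom.mem_ker, RingHom.mem_ker]
      show Φ (incR v) = 0 ↔ _
      rw [hΦR])
  -- the local scheme at the point
  let L := Localization.AtPrime Q
  letI : CommRing (C ⊗[CAlg2.red O] A) := Algebra.TensorProduct.instCommRing
  letI : CommRing L := inferInstanceAs (CommRing (Localization.AtPrime Q))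
  let lC : C →+* L := (algebraMap _ L).comp incL
  have hlu : ∀ m : M, IsUnit (lC m) := fun m => IsLocalization.map_units (M := Q.primeCompl) L
    ⟨incL m.1, fun hm => ((m.2 : IsUnit (m.1 : S)).map a).ne_zero ((hΦL _).symm.trans hm)⟩
  let lS : S →+* L := IsLocalization.lift hlu
  have hlS : ∀ c : C, lS c.1 = lC c := fun c => IsLocalization.lift_eq hlu c
  let lA : A →+* L := (algebraMap _ L).comp incR
  have hOl : lS.comp φ = lA.comp σ := RingHom.ext fun t => by
    show lS ((algebraMap (CAlg2.red O) C (Ideal.Quotient.mk _ t)).1) = lA (algebraMap (CAlg2.red O) A (Ideal.Quotient.mk _ t))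
    rw [hlS]
    show algebraMap (C ⊗[CAlg2.red O] A) L (incL (algebraMap (CAlg2.red O) C (Ideal.Quotient.mk _ t))) =
      algebraMap (C ⊗[CAlg2.red O] A) L (incR (algebraMap (CAlg2.red O) A (Ideal.Quotient.mk _ t)))
    congr 1
    show _ ⊗ₜ[CAlg2.red O] (1 : A) = (1 : C) ⊗ₜ[CAlg2.red O] _
    rw [Algebra.algebraMap_eq_smul_one, Algebra.algebraMap_eq_smul_one, TensorProduct.smul_tmul]
  let m : Spec (CommRingCat.of L) ⟶ pullback f g := pullback.lift
    (Spec.map (CommRingCat.ofHom lS) ≫ X.fromSpecStalk x) (Spec.map (CommRingCat.ofHom lA)) (by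
      rw [Category.assoc, ← Scheme.SpecMap_stalkMap_fromSpecStalk, ← hσg, ← Spec.map_comp_assoc, ← Spec.map_comp_assoc]
      congr 2
      exact CommRingCat.hom_ext hOl)
  let ev : L →+* κ := IsLocalization.lift (M := Q.primeCompl) (g := Φ.toRingHom) fun t =>
    (show Φ t.1 ≠ 0 from fun h0 => t.2 h0).isUnit
  have hev : ∀ t, ev (algebraMap _ L t) = Φ t := fun t => IsLocalization.lift_eq _ t
  have hm : Spec.map (CommRingCat.ofHom ev) ≫ m = ι := by
    apply pullback.hom_ext
    · rw [Category.assoc, pullback.lift_fst, ← haι, ← Spec.map_comp_assoc]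
      congr 2
      refine CommRingCat.hom_ext (IsLocalization.ringHom_ext M (RingHom.ext fun c => ?_))
      show ev (lS c.1) = a c.1
      rw [hlS]
      exact (hev _).trans (hΦL c)
    · rw [Category.assoc, pullback.lift_snd, ← hbι, ← Spec.map_comp]
      congr 1
      refine CommRingCat.hom_ext (RingHom.ext fun v => ?_)
      exact (hev _).trans (hΦR v)
  have hdisj : Disjoint (Q.primeCompl : Set (C ⊗[CAlg2.red O] A)) R :=
    Set.disjoint_left.2 fun t ht htR => ht (hRQ htR)
  haveI hRL : (R.map (algebraMap _ L)).IsPrime := IsLocalization.isPrime_of_isPrime_disjoint Q.primeCompl L R hR hdisj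
  let ρ : Spec (CommRingCat.of L) := (⟨R.map (algebraMap _ L), hRL⟩ : PrimeSpectrum L)
  let cl : Spec (CommRingCat.of L) := Spec.map (CommRingCat.ofHom ev) pt
  have hρ : ρ ⤳ cl := by
    refine (PrimeSpectrum.le_iff_specializes (⟨R.map (algebraMap _ L), hRL⟩ : PrimeSpectrum L) (cl : PrimeSpectrum L)).1 ?_
    show R.map (algebraMap _ L) ≤ (IsLocalRing.maximalIdeal κ).comap ev
    rw [Ideal.map_le_iff_le_comap, IsLocalRing.maximalIdeal_eq_bot]
    intro t ht
    show ev (algebraMap _ L t) = 0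
    rw [hev]
    exact hRQ ht
  refine ⟨m ρ, ?_, fun hc => ?_⟩
  · rw [← hι, ← hm]
    exact hρ.map m.continuous
  · have h1 : (Spec.map (CommRingCat.ofHom lA)) ρ = IsLocalRing.closedPoint A := by
      rw [← hc]
      show _ = (m ≫ pullback.snd f g) ρ
      rw [pullback.lift_snd]
    have h2 : (R.map (algebraMap _ L)).comap lA = IsLocalRing.maximalIdeal A := congrArg PrimeSpectrum.asIdeal h1
    rw [← Ideal.comap_comap] at h2
    rw [show (R.map (algebraMap _ L)).comap (algebraMap _ L) = R from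
      IsLocalization.under_map_of_isPrime_disjoint Q.primeCompl L hR hdisj, hR0] at h2
    exact IsDiscreteValuationRing.not_a_field A h2.symm

end Groth.Agent.UnivOpen
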